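import Mathlib
import Cfsg.Agent.PSU3Id.Compare

/-!
Hermitian coordinates together with the torus `k`.
-/

set_option autoImplicit false

namespace Cfsg.Agent.PSU3Id

open MulAction

/-- Hermitian coordinates with the torus -/
structure HCK {G Ω F : Type*} [Group G] [MulAction G Ω] [Field F] (a : Ω) (t : G) (Q : Subgroup G) (δ : F)
    (V : F → F → F → G) (k : F → G) : Prop where
  hc : HC a t Q δ V
  ke : ∀ z, z ≠ 0 → k z = V 0 0 z * (t * V 0 0 z⁻¹ * t) * V 0 0 z * t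
  kV : ∀ m, m ≠ 0 → ∀ u v z, k m * V u v z * (k m)⁻¹ = V (m * u) (m * v) (m ^ 2 * z)

namespace HA

variable {G Ω F : Type*} [Group G] [MulAction G Ω] [Field F] {a : Ω} {t : G} {Q : Subgroup G} {e k : F → G}
  {h : HG a t Q e k} {Ψ : F → F → F → F → G} {α β sq : G → F} (H : HA h Ψ α β sq) {δ : F}
  (hq : ∀ x ∈ Q, sq x = α x ^ 2 + α x * β x + δ * β x ^ 2)

include H hq

theorem N_k {m : F} (hm : m ≠ 0) (u v : F) : k m * H.N δ u v * (k m)⁻¹ = H.N δ (m * u) (m * v) := by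
  by_cases huv : u = 0 ∧ v = 0
  · obtain ⟨rfl, rfl⟩ := huv
    rw [mul_zero, H.N_zero]; group
  · have huv' : ¬ (m * u = 0 ∧ m * v = 0) := by
      rintro ⟨h1, h2⟩
      exact huv ⟨(mul_eq_zero.1 h1).resolve_left hm, (mul_eq_zero.1 h2).resolve_left hm⟩
    have hP := H.PF_ne hq huv
    have hPm : PF δ (m * u) (m * v) = m ^ 2 * PF δ u v := by unfold PF; ring
    rw [H.N_ne huv, H.N_ne huv', hPm, ← H.HP.P3 _ _ _ _ _ hm (H.N_det hq huv)]
    congr 1
    · ring
    · field_simp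
    · field_simp

theorem exists_HCK [Finite F] : ∃ V, HC a t Q δ V ∧ (∀ z, V 0 0 z = e z) ∧
    ∀ m, m ≠ 0 → ∀ u v z, k m * V u v z * (k m)⁻¹ = V (m * u) (m * v) (m ^ 2 * z) := by
  have h2 := h.two
  refine ⟨fun u v z => e z * H.N δ u v, ⟨h.tt, h.ta, ?_, ?_, ?_, ?_, ?_, ?_, ?_⟩, ?_, ?_⟩
  · intro u v z
    exact h.Q_a _ (mul_mem (h.e_mem z) (H.N_mem hq u v))
  · intro g
    constructor
    · intro hg
      obtain ⟨z, hz⟩ := H.eq_mod hg (H.N_mem hq (α g) (β g)) (H.N1 hq _ _).symm (H.N2 hq _ _).symm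
      exact ⟨_, _, z, hz⟩
    · rintro ⟨u, v, z, rfl⟩
      exact mul_mem (h.e_mem z) (H.N_mem hq u v)
  · intro u v z u' v' z' heq
    have m1 := H.N_mem hq u v
    have m2 := H.N_mem hq u' v'
    have h3 := h.uniq _ (mul_mem (h.e_mem z) m1) _ (mul_mem (h.e_mem z') m2) heq
    have h4 : e z * H.N δ u v = e z' * H.N δ u' v' := h3
    have h5 := congrArg α h4
    have h6 := congrArg β h4
    rw [H.a1 _ (h.e_mem z) _ m1, H.a1 _ (h.e_mem z') _ m2, H.e1, H.e1, H.N1 hq, H.N1 hq, zero_add,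
      zero_add] at h5
    rw [H.a2 _ (h.e_mem z) _ m1, H.a2 _ (h.e_mem z') _ m2, H.e2, H.e2, H.N2 hq, H.N2 hq, zero_add,
      zero_add] at h6
    subst h5 h6
    exact ⟨rfl, rfl, h.e_inj _ _ (mul_right_cancel h4)⟩
  · intro p hp
    obtain ⟨g, hg, rfl⟩ := h.reg p hp
    obtain ⟨z, hz⟩ := H.eq_mod hg (H.N_mem hq (α g) (β g)) (H.N1 hq _ _).symm (H.N2 hq _ _).symm
    exact ⟨α g, β g, z, by show (e z * H.N δ (α g) (β g)) • t • a = _; rw [← hz]⟩
  · intro u v z u' v' z'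
    have m1 := H.N_mem hq u v
    show e z * H.N δ u v * (e z' * H.N δ u' v') =
      e (z + z' + ((u' + δ * v') * v + u' * u)) * H.N δ (u + u') (v + v')
    calc e z * H.N δ u v * (e z' * H.N δ u' v') = e z * (H.N δ u v * e z') * H.N δ u' v' := by group
      _ = e z * (e z' * H.N δ u v) * H.N δ u' v' := by rw [← h.e_cen _ _ m1]
      _ = e z * e z' * (H.N δ u v * H.N δ u' v') := by group
      _ = _ := by rw [H.N_mul hq, h.e_add (z + z'), h.e_add z z']; group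
  · intro z hz
    show t • (e z * H.N δ 0 0) • t • a = (e z⁻¹ * H.N δ 0 0) • t • a
    rw [H.N_zero, mul_one, mul_one, ← (h.gg_spec (h.e_mem z) (h.e_ne hz)).2, h.gg_e hz]
  · intro u v z huv
    have hd := H.N_det hq huv
    obtain ⟨P, hP⟩ : ∃ P, P = PF δ u v := ⟨_, rfl⟩
    have hP0 : P ≠ 0 := by rw [hP]; exact H.PF_ne hq huv
    show t • (e z * H.N δ u v) • t • a = (e (fz δ u v (fp δ u v z) (fq δ u v z)) *
      H.N δ (fp δ u v z / PF δ (fp δ u v z) (fq δ u v z)) (fq δ u v z / PF δ (fp δ u v z) (fq δ u v z))) • t • a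
    obtain ⟨p, hp⟩ : ∃ p, p = fp δ u v z := ⟨_, rfl⟩
    obtain ⟨q, hqq⟩ : ∃ q, q = fq δ u v z := ⟨_, rfl⟩
    rw [← hp, ← hqq]
    have hd' := det1 h2 z hd
    have hV : e z * H.N δ u v = Ψ p q (u / P) (v / P) := by
      rw [H.N_ne huv, ← H.HP.P1 _ _ _ _ _ hd, hp, hqq, hP]; rfl
    have hd2 : p * (v / P) + q * (u / P) = 1 := by
      rw [hp, hqq, hP]
      exact hd'
    have ho := H.HP.out _ _ _ _ hd2
    have hpq : ¬ (p = 0 ∧ q = 0) := by
      rintro ⟨h3, h4⟩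
      rw [h3, h4] at hd2
      simp at hd2
    obtain ⟨R, hR⟩ : ∃ R, R = PF δ p q := ⟨_, rfl⟩
    have hR0 : R ≠ 0 := by rw [hR]; exact H.PF_ne hq hpq
    have hpq' : ¬ (p / R = 0 ∧ q / R = 0) := by
      rintro ⟨h3, h4⟩
      apply hpq
      exact ⟨(div_eq_zero_iff.1 h3).resolve_right hR0, (div_eq_zero_iff.1 h4).resolve_right hR0⟩
    have hR1 : PF δ (p / R) (q / R) = R⁻¹ := by
      have : PF δ (p / R) (q / R) = PF δ p q / R ^ 2 := by unfold PF; field_simp
      rw [this, ← hR]; field_simp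
    have hN : H.N δ (p / R) (q / R) = Ψ (p / R + δ * (q / R)) (p / R) p q := by
      rw [H.N_ne hpq', hR1]
      congr 1
      · field_simp
      · field_simp
    have hdN : (p / R + δ * (q / R)) * q + p / R * p = 1 := by
      have := H.N_det hq hpq'
      rw [hR1] at this
      have k1 : p / R / R⁻¹ = p := by field_simp
      have k2 : q / R / R⁻¹ = q := by field_simp
      rwa [k1, k2] at this
    rw [hV, ← (h.gg_spec ho.1 (h.out_ne ho)).2, H.HP.P2 _ _ _ _ hd2, ← hR, hN, ← H.HP.P1 _ _ _ _ _ hdN]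
    have hz' : fz δ u v p q = ((u / P) * p + (v / P) * (p + δ * q)) / R := by
      rw [hP, hR]; rfl
    obtain ⟨x, hx⟩ : ∃ x, x = u / P := ⟨_, rfl⟩
    obtain ⟨y, hy⟩ : ∃ y, y = v / P := ⟨_, rfl⟩
    rw [hz', ← hx, ← hy]
    rw [← hx, ← hy] at hd2
    have hRe : R = p ^ 2 + p * q + δ * q ^ 2 := hR
    have k1 : x = p / R + δ * (q / R) + (x * p + y * (p + δ * q)) / R * p := by
      have : p / R + δ * (q / R) + (x * p + y * (p + δ * q)) / R * p =
        (p + δ * q + (x * p + y * (p + δ * q)) * p) / R := by field_simp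
      rw [this, eq_div_iff hR0, hRe]
      grind
    have k2 : y = p / R + (x * p + y * (p + δ * q)) / R * q := by
      have : p / R + (x * p + y * (p + δ * q)) / R * q =
        (p + (x * p + y * (p + δ * q)) * q) / R := by field_simp
      rw [this, eq_div_iff hR0, hRe]
      grind
    rw [← k1, ← k2]
  · intro z
    show e z * H.N δ 0 0 = e z
    rw [H.N_zero, mul_one]
  · intro m hm u v z
    show k m * (e z * H.N δ u v) * (k m)⁻¹ = e (m ^ 2 * z) * H.N δ (m * u) (m * v)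
    rw [← H.N_k hq hm, ← h.k_e _ _ hm]; group

end HA

theorem HG.exists_HCK {G Ω F : Type*} [Group G] [Finite G] [MulAction G Ω] [Field F] [Finite F] {a : Ω} {t : G}
    {Q : Subgroup G} {e k : F → G} (h : HG a t Q e k) {δ : F} (hδ : ∀ w : F, w ^ 2 + w ≠ δ) :
    ∃ V, HCK a t Q δ V k ∧ ∀ z, V 0 0 z = e z := by
  obtain ⟨Ψ, α, β, sq, H, hq⟩ := h.exists_norm hδ
  obtain ⟨V, h1, h3, h4⟩ := H.exists_HCK hq
  refine ⟨V, ⟨h1, ?_, h4⟩, h3⟩
  intro z hz
  rw [h3, h3]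
  have h5 := h.tet (inv_ne_zero hz)
  rw [inv_inv] at h5
  rw [h5]
  calc k z = (e z * e z) * k z * (t * t) := by rw [h.e_e, h.tt]; group
    _ = (e z * e z) * k z * t * (e z * e z) * t := by rw [h.e_e]; group
    _ = e z * (e z * k z * t * e z) * e z * t := by group

end Cfsg.Agent.PSU3Id
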