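import Mathlib
import Cfsg.Agent.PSU3Id.FullA

/-!
Automorphisms of a unitary rank one group centralising `t` and `E`.
-/

set_option autoImplicit false

namespace Cfsg.Agent.PSU3Id

open MulAction

namespace HCK

variable {G Ω F : Type*} [Group G] [MulAction G Ω] [Field F] {a : Ω} {t : G} {Q : Subgroup G} {δ : F}
  {V : F → F → F → G} {k : F → G} (H : HCK a t Q δ V k)

/-- the group of elements which fix `a`, centralise `t` and `E` and normalise `Q` -/
def Adm (_ : HCK a t Q δ V k) : Subgroup G :=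
  stabilizer G a ⊓ Subgroup.centralizer {t} ⊓ Subgroup.centralizer (Set.range (fun z => V 0 0 z)) ⊓
    Subgroup.normalizer (Q : Set G)

variable {H}

theorem mem_Adm {d : G} : d ∈ H.Adm ↔ d • a = a ∧ d * t = t * d ∧ (∀ z, d * V 0 0 z = V 0 0 z * d) ∧
    ∀ g, g ∈ Q ↔ d * g * d⁻¹ ∈ Q := by
  constructor
  · rintro ⟨⟨⟨h1, h2⟩, h3⟩, h4⟩
    refine ⟨h1, ?_, ?_, ?_⟩
    · exact (Subgroup.mem_centralizer_iff.1 h2 t rfl).symm
    · intro z
      exact (Subgroup.mem_centralizer_iff.1 h3 _ ⟨z, rfl⟩).symm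
    · intro g
      exact Subgroup.mem_normalizer_iff.1 h4 g
  · rintro ⟨h1, h2, h3, h4⟩
    refine ⟨⟨⟨h1, Subgroup.mem_centralizer_iff.2 ?_⟩, Subgroup.mem_centralizer_iff.2 ?_⟩, ?_⟩
    · rintro x hx
      rw [Set.mem_singleton_iff] at hx
      rw [hx]; exact h2.symm
    · rintro x ⟨z, rfl⟩
      exact (h3 z).symm
    · exact Subgroup.mem_normalizer_iff.2 h4

theorem add_self' {F : Type*} [Field F] (h2 : (2 : F) = 0) (x : F) : x + x = 0 := by
  linear_combination x * h2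

/-- anisotropic form -/
theorem PF_ne' {F : Type*} [Field F] {δ : F} (hδ : ∀ w : F, w ^ 2 + w ≠ δ) (h2 : (2 : F) = 0) {u v : F}
    (huv : ¬ (u = 0 ∧ v = 0)) : PF δ u v ≠ 0 := by
  intro h
  by_cases hv : v = 0
  · apply huv
    refine ⟨?_, hv⟩
    rw [hv] at h
    have : u ^ 2 = 0 := by rw [← h]; unfold PF; ring
    exact pow_eq_zero_iff two_ne_zero |>.1 this
  · apply hδ (u / v)
    have h3 : u ^ 2 + u * v + δ * v ^ 2 = 0 := h
    have h4 : (u / v) ^ 2 + u / v = (u ^ 2 + u * v) / v ^ 2 := by field_simp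
    rw [h4, div_eq_iff (pow_ne_zero 2 hv)]
    linear_combination h3 - (δ * v ^ 2) * h2

variable (H)
include H

theorem ex {d : G} (hd : d ∈ H.Adm) (u v : F) : ∃ p r s, d * V u v 0 * d⁻¹ = V p r s :=
  (H.hc.mem _).1 ((((mem_Adm.1 hd).2.2.2) _).1 ((H.hc.mem _).2 ⟨u, v, 0, rfl⟩))

theorem V_inj {u v z u' v' z' : F} (h : V u v z = V u' v' z') : u = u' ∧ v = v' ∧ z = z' :=
  H.hc.inj _ _ _ _ _ _ (by rw [h])

theorem comm_k {d : G} (hd : d ∈ H.Adm) {m : F} (hm : m ≠ 0) : d * k m = k m * d := by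
  obtain ⟨-, h1, h3, -⟩ := mem_Adm.1 hd
  have c1 : Commute d t := h1
  have c2 : ∀ z, Commute d (V 0 0 z) := h3
  rw [H.ke m hm]
  exact (((c2 m).mul_right ((c1.mul_right (c2 _)).mul_right c1)).mul_right (c2 m)).mul_right c1

variable (h2 : (2 : F) = 0)
include h2

theorem V0 : V 0 0 0 = 1 := H.hc.V_zero h2

theorem V_split (u v z : F) : V u v z = V 0 0 z * V u v 0 := by
  rw [H.hc.mul]
  congr 1 <;> ring

theorem V_comm (u v z : F) : V 0 0 z * V u v 0 = V u v 0 * V 0 0 z := by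
  rw [H.hc.mul, H.hc.mul]
  congr 1 <;> ring

theorem V_sq (u v z : F) : V u v z * V u v z = V 0 0 (PF δ u v) := by
  rw [H.hc.mul, add_self' h2, add_self' h2, add_self' h2]
  congr 1
  unfold PF; ring

theorem conj_z {d : G} (hd : d ∈ H.Adm) {u v p r s : F} (h : d * V u v 0 * d⁻¹ = V p r s) (z : F) :
    d * V u v z * d⁻¹ = V p r (s + z) := by
  have h1 := (mem_Adm.1 hd).2.2.1 z
  have h3 : V p r (s + z) = V 0 0 z * V p r s := by
    rw [H.hc.mul]; congr 1 <;> ring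
  rw [h3, ← h, H.V_split h2 u v z]
  calc d * (V 0 0 z * V u v 0) * d⁻¹ = (d * V 0 0 z) * V u v 0 * d⁻¹ := by group
    _ = _ := by rw [h1]; group

theorem conj_add {d : G} (hd : d ∈ H.Adm) {u v p r s u' v' p' r' s' : F} (h : d * V u v 0 * d⁻¹ = V p r s)
    (h' : d * V u' v' 0 * d⁻¹ = V p' r' s') :
    ∃ s'', d * V (u + u') (v + v') 0 * d⁻¹ = V (p + p') (r + r') s'' := by
  have h1 : V (u + u') (v + v') 0 = V 0 0 ((u' + δ * v') * v + u' * u) * (V u v 0 * V u' v' 0) := by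
    rw [H.hc.mul u v 0, H.hc.mul]
    have e := add_self' h2 ((u' + δ * v') * v + u' * u)
    congr 1
    · ring
    · ring
    · linear_combination -e
  obtain ⟨p1, r1, s1, h3⟩ := H.ex hd (u + u') (v + v')
  have h4 := (mem_Adm.1 hd).2.2.1 ((u' + δ * v') * v + u' * u)
  have h5 : d * V (u + u') (v + v') 0 * d⁻¹ =
      V 0 0 ((u' + δ * v') * v + u' * u) * (V p r s * V p' r' s') := by
    rw [h1, ← h, ← h']
    calc d * (V 0 0 ((u' + δ * v') * v + u' * u) * (V u v 0 * V u' v' 0)) * d⁻¹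
        = (d * V 0 0 ((u' + δ * v') * v + u' * u)) * V u v 0 * V u' v' 0 * d⁻¹ := by group
      _ = _ := by rw [h4]; group
  rw [H.hc.mul p r, H.hc.mul, zero_add, zero_add] at h5
  exact ⟨_, h5⟩

theorem conj_smul {d : G} (hd : d ∈ H.Adm) {u v p r s : F} (h : d * V u v 0 * d⁻¹ = V p r s) (m : F) :
    ∃ s', d * V (m * u) (m * v) 0 * d⁻¹ = V (m * p) (m * r) s' := by
  by_cases hm : m = 0
  · subst hm
    refine ⟨0, ?_⟩
    rw [zero_mul, zero_mul, zero_mul, zero_mul, H.V0 h2]; group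
  · refine ⟨m ^ 2 * s, ?_⟩
    have h3 := H.comm_k hd hm
    have h4 := H.kV m hm u v 0
    rw [mul_zero] at h4
    have h5 : d * (k m)  = k m * d := h3
    have h6 : (k m)⁻¹ * d⁻¹ = d⁻¹ * (k m)⁻¹ := by
      rw [← mul_inv_rev, ← mul_inv_rev, h3]
    rw [← h4, ← H.kV m hm, ← h]
    calc d * (k m * V u v 0 * (k m)⁻¹) * d⁻¹ = (d * k m) * V u v 0 * ((k m)⁻¹ * d⁻¹) := by group
      _ = _ := by rw [h5, h6]; group

theorem conj_PF {d : G} (hd : d ∈ H.Adm) {u v p r s : F} (h : d * V u v 0 * d⁻¹ = V p r s) :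
    PF δ p r = PF δ u v := by
  have h1 := H.V_sq h2 u v 0
  have h3 := H.V_sq h2 p r s
  have h4 := (mem_Adm.1 hd).2.2.1 (PF δ u v)
  have h5 : V 0 0 (PF δ p r) = V 0 0 (PF δ u v) := by
    rw [← h3, ← h]
    calc d * V u v 0 * d⁻¹ * (d * V u v 0 * d⁻¹) = d * (V u v 0 * V u v 0) * d⁻¹ := by group
      _ = _ := by rw [h1, h4]; group
  exact (H.V_inj h5).2.2

variable (hδ : ∀ w : F, w ^ 2 + w ≠ δ)
include hδ

/-- an admissible element which is trivial on `Q / E` is trivial -/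
theorem eq_one (hf : ∀ g : G, (∀ p : Ω, g • p = p) → g = 1) {d : G} (hd : d ∈ H.Adm)
    (h : ∀ u v, ∃ s, d * V u v 0 * d⁻¹ = V u v s) : d = 1 := by
  obtain ⟨ha, ht, he, -⟩ := mem_Adm.1 hd
  have hta : d • t • a = t • a := by rw [← mul_smul, ht, mul_smul, ha]
  have key : ∀ u v, d * V u v 0 * d⁻¹ = V u v 0 := by
    intro u v
    by_cases huv : u = 0 ∧ v = 0
    · obtain ⟨rfl, rfl⟩ := huv
      rw [H.V0 h2]; group
    · obtain ⟨s, hs⟩ := h u v
      have hP0 := PF_ne' hδ h2 huv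
      have e1 : d • t • V u v 0 • t • a = t • V u v s • t • a := by
        calc d • t • V u v 0 • t • a = (d * t) • V u v 0 • t • a := (mul_smul _ _ _).symm
          _ = t • (d * V u v 0 * d⁻¹) • d • t • a := by
            rw [ht, mul_smul, mul_smul, mul_smul, inv_smul_smul]
          _ = _ := by rw [hs, hta]
      rw [H.hc.t1 u v 0 huv, H.hc.t1 u v s huv] at e1
      obtain ⟨X0, hX0⟩ : ∃ x, x = fp δ u v 0 / PF δ (fp δ u v 0) (fq δ u v 0) := ⟨_, rfl⟩
      obtain ⟨Y0, hY0⟩ : ∃ x, x = fq δ u v 0 / PF δ (fp δ u v 0) (fq δ u v 0) := ⟨_, rfl⟩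
      obtain ⟨Z0, hZ0⟩ : ∃ x, x = fz δ u v (fp δ u v 0) (fq δ u v 0) := ⟨_, rfl⟩
      rw [← hX0, ← hY0, ← hZ0] at e1
      obtain ⟨s', hs'⟩ := h X0 Y0
      have e2 : d • V X0 Y0 Z0 • t • a = V X0 Y0 (s' + Z0) • t • a := by
        calc d • V X0 Y0 Z0 • t • a = (d * V X0 Y0 Z0 * d⁻¹) • d • t • a := by
              rw [mul_smul, mul_smul, inv_smul_smul]
          _ = _ := by rw [H.conj_z h2 hd hs', hta]
      rw [e2] at e1
      obtain ⟨e3, e4, -⟩ := H.hc.inj _ _ _ _ _ _ e1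
      -- `fp`, `fq` determine
      have hne0 : ¬ (fp δ u v 0 = 0 ∧ fq δ u v 0 = 0) := by
        rintro ⟨h3, h4⟩
        unfold fp at h3
        unfold fq at h4
        apply huv
        have hu : u = 0 := by linear_combination h4
        rw [hu] at h3
        have h5 : δ * v = 0 := by linear_combination h3
        refine ⟨hu, ?_⟩
        rcases mul_eq_zero.1 h5 with h6 | h6
        · exact absurd (by rw [h6]; ring) (hδ 0)
        · exact h6
      have hR0 := PF_ne' hδ h2 hne0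
      have hXY : PF δ X0 Y0 = (PF δ (fp δ u v 0) (fq δ u v 0))⁻¹ := by
        have : PF δ X0 Y0 = PF δ (fp δ u v 0) (fq δ u v 0) / PF δ (fp δ u v 0) (fq δ u v 0) ^ 2 := by
          rw [hX0, hY0]
          conv_lhs => unfold PF
          conv_rhs => rw [show PF δ (fp δ u v 0) (fq δ u v 0) / PF δ (fp δ u v 0) (fq δ u v 0) ^ 2 =
            (fp δ u v 0 ^ 2 + fp δ u v 0 * fq δ u v 0 + δ * fq δ u v 0 ^ 2) /
              PF δ (fp δ u v 0) (fq δ u v 0) ^ 2 from rfl]
          have hR0' : fp δ u v 0 ^ 2 + fp δ u v 0 * fq δ u v 0 + δ * fq δ u v 0 ^ 2 ≠ 0 := hR0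
          have e5 : PF δ (fp δ u v 0) (fq δ u v 0) = fp δ u v 0 ^ 2 + fp δ u v 0 * fq δ u v 0 + δ * fq δ u v 0 ^ 2 := rfl
          rw [e5]
          field_simp
        rw [this]; field_simp
      have hne1 : ¬ (fp δ u v s = 0 ∧ fq δ u v s = 0) := by
        rintro ⟨h3, h4⟩
        rw [h3, zero_div] at e3
        rw [h4, zero_div] at e4
        rw [e3, e4] at hXY
        have : PF δ 0 0 = 0 := by unfold PF; ring
        rw [this] at hXY
        exact (inv_ne_zero hR0) hXY.symm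
      have hR1 := PF_ne' hδ h2 hne1
      have hXY' : PF δ X0 Y0 = (PF δ (fp δ u v s) (fq δ u v s))⁻¹ := by
        have : PF δ X0 Y0 = PF δ (fp δ u v s) (fq δ u v s) / PF δ (fp δ u v s) (fq δ u v s) ^ 2 := by
          rw [e3, e4]
          conv_lhs => unfold PF
          have hR0' : fp δ u v s ^ 2 + fp δ u v s * fq δ u v s + δ * fq δ u v s ^ 2 ≠ 0 := hR1
          have e5 : PF δ (fp δ u v s) (fq δ u v s) = fp δ u v s ^ 2 + fp δ u v s * fq δ u v s + δ * fq δ u v s ^ 2 := rfl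
          rw [e5]
          field_simp
        rw [this]; field_simp
      have hRR : PF δ (fp δ u v s) (fq δ u v s) = PF δ (fp δ u v 0) (fq δ u v 0) := by
        rw [← inv_inj, ← hXY, ← hXY']
      rw [hRR, hX0, div_left_inj' hR0] at e3
      rw [hRR, hY0, div_left_inj' hR0] at e4
      have hs0 : s = 0 := by
        by_contra hs0
        unfold fp at e3
        unfold fq at e4
        have k1 : s * (u / PF δ u v) = 0 := by linear_combination -e3
        have k2 : s * (v / PF δ u v) = 0 := by linear_combination -e4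
        apply huv
        exact ⟨(div_eq_zero_iff.1 ((mul_eq_zero.1 k1).resolve_left hs0)).resolve_right hP0,
          (div_eq_zero_iff.1 ((mul_eq_zero.1 k2).resolve_left hs0)).resolve_right hP0⟩
      rw [hs, hs0]
  apply hf
  intro p
  by_cases hp : p = a
  · rw [hp, ha]
  · obtain ⟨u, v, z, rfl⟩ := H.hc.pts p hp
    calc d • V u v z • t • a = (d * V u v z * d⁻¹) • d • t • a := by
          rw [mul_smul, mul_smul, inv_smul_smul]
      _ = _ := by rw [H.conj_z h2 hd (key u v), zero_add, hta]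

end HCK

end Cfsg.Agent.PSU3Id
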