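import Mathlib
import Cfsg.Agent.PSU3Id.FullB

/-!
The group of admissible elements has at most one subgroup of order `q + 1` (`q` even).
-/

set_option autoImplicit false

namespace Cfsg.Agent.PSU3Id

open MulAction

/-- number of vectors of norm one -/
theorem card_norm_one {F : Type*} [Field F] [Finite F] (h2 : (2 : F) = 0) {δ : F} (hδ : ∀ w : F, w ^ 2 + w ≠ δ) :
    Nat.card {w : F × F // PF δ w.1 w.2 = 1} = Nat.card F + 1 := by
  classical
  let _ := Fintype.ofFinite F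
  have hsqrt : Function.Bijective (fun x : F => x ^ 2) := by
    have : Function.Injective (fun x : F => x ^ 2) := by
      intro x y hxy
      have hxy : x ^ 2 = y ^ 2 := hxy
      have h3 : (x - y) ^ 2 = 0 := by linear_combination hxy + (y ^ 2 - x * y) * h2
      exact sub_eq_zero.1 (pow_eq_zero_iff two_ne_zero |>.1 h3)
    exact Finite.injective_iff_bijective.1 this
  have hPF : ∀ m u v : F, PF δ (m * u) (m * v) = m ^ 2 * PF δ u v := by
    intro m u v; unfold PF; ring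
  let f : {w : F × F // PF δ w.1 w.2 = 1} × {m : F // m ≠ 0} → {w : F × F // w ≠ 0} := fun x =>
    ⟨((x.2 : F) * x.1.1.1, (x.2 : F) * x.1.1.2), by
      intro h0
      have h1 : (x.2 : F) * x.1.1.1 = 0 := congrArg Prod.fst h0
      have h3 : (x.2 : F) * x.1.1.2 = 0 := congrArg Prod.snd h0
      have h4 := x.1.2
      rw [(mul_eq_zero.1 h1).resolve_left x.2.2, (mul_eq_zero.1 h3).resolve_left x.2.2] at h4
      apply zero_ne_one (α := F)
      rw [← h4]; unfold PF; ring⟩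
  have hf : Function.Bijective f := by
    constructor
    · rintro ⟨⟨⟨u, v⟩, hw⟩, ⟨m, hm⟩⟩ ⟨⟨⟨u', v'⟩, hw'⟩, ⟨m', hm'⟩⟩ h
      have h1 : m * u = m' * u' := congrArg (fun x => x.1.1) h
      have h3 : m * v = m' * v' := congrArg (fun x => x.1.2) h
      have hw : PF δ u v = 1 := hw
      have hw' : PF δ u' v' = 1 := hw'
      have h4 : m ^ 2 = m' ^ 2 := by
        have := hPF m u v
        rw [h1, h3, hPF, hw, hw', mul_one, mul_one] at this
        exact this.symm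
      have h5 : m = m' := hsqrt.1 h4
      subst h5
      rw [mul_right_inj' hm] at h1 h3
      subst h1 h3
      rfl
    · rintro ⟨⟨u, v⟩, hw⟩
      have huv : ¬ (u = 0 ∧ v = 0) := by
        rintro ⟨rfl, rfl⟩; exact hw rfl
      have hP := HCK.PF_ne' hδ h2 huv
      obtain ⟨m, hm⟩ := hsqrt.2 (PF δ u v)
      have hm : m ^ 2 = PF δ u v := hm
      have hm0 : m ≠ 0 := by
        rintro rfl
        rw [zero_pow two_ne_zero] at hm
        exact hP hm.symm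
      refine ⟨⟨⟨(m⁻¹ * u, m⁻¹ * v), ?_⟩, ⟨m, hm0⟩⟩, ?_⟩
      · show PF δ (m⁻¹ * u) (m⁻¹ * v) = 1
        rw [hPF, ← hm]; field_simp
      · apply Subtype.ext
        show (m * (m⁻¹ * u), m * (m⁻¹ * v)) = (u, v)
        rw [mul_inv_cancel_left₀ hm0, mul_inv_cancel_left₀ hm0]
  have h3 := Nat.card_congr (Equiv.ofBijective f hf)
  rw [Nat.card_prod] at h3
  have h4 : Nat.card {m : F // m ≠ 0} = Nat.card F - 1 := by
    rw [Nat.card_eq_fintype_card, Nat.card_eq_fintype_card, Fintype.card_subtype_compl]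
    simp
  have h5 : Nat.card {w : F × F // w ≠ 0} = Nat.card F ^ 2 - 1 := by
    rw [Nat.card_eq_fintype_card, Nat.card_eq_fintype_card, Fintype.card_subtype_compl, Fintype.card_prod]
    simp [pow_two]
  rw [h4, h5] at h3
  have hq : 2 ≤ Nat.card F := Finite.one_lt_card
  obtain ⟨r, hr⟩ : ∃ r, Nat.card F = r + 2 := ⟨Nat.card F - 2, by omega⟩
  rw [hr] at h3 ⊢
  have h6 : (r + 2) ^ 2 - 1 = (r + 3) * (r + 1) := by
    have : (r + 2) ^ 2 = (r + 3) * (r + 1) + 1 := by ring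
    rw [this, Nat.add_sub_cancel]
  have h7 : r + 2 - 1 = r + 1 := by omega
  rw [h6, h7] at h3
  have := Nat.eq_of_mul_eq_mul_right (by omega) h3
  omega

namespace HCK

variable {G Ω F : Type*} [Group G] [MulAction G Ω] [Field F] {a : Ω} {t : G} {Q : Subgroup G} {δ : F}
  {V : F → F → F → G} {k : F → G} (H : HCK a t Q δ V k)

/-- admissible elements fixing the first basis vector -/
theorem fix_first (h2 : (2 : F) = 0) {d : G} (hd : d ∈ H.Adm) {s : F}
    (h : d * V 1 0 0 * d⁻¹ = V 1 0 s) : ∃ x s', (x = 0 ∨ x = 1) ∧ d * V 0 1 0 * d⁻¹ = V x 1 s' ∧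
      ∀ u v, ∃ r, d * V u v 0 * d⁻¹ = V (u + v * x) v r := by
  obtain ⟨x, y, s', hs'⟩ := H.ex hd 0 1
  have key : ∀ u v, ∃ r, d * V u v 0 * d⁻¹ = V (u + v * x) (v * y) r := by
    intro u v
    obtain ⟨r1, h1⟩ := H.conj_smul h2 hd h u
    obtain ⟨r2, h3⟩ := H.conj_smul h2 hd hs' v
    obtain ⟨r3, h4⟩ := H.conj_add h2 hd h1 h3
    refine ⟨r3, ?_⟩
    have e1 : u * 1 + v * 0 = u := by ring
    have e2 : u * 0 + v * 1 = v := by ring
    have e3 : u * 1 + v * x = u + v * x := by ring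
    have e4 : u * 0 + v * y = v * y := by ring
    rw [e1, e2, e3, e4] at h4
    exact h4
  have h1 := H.conj_PF h2 hd hs'
  obtain ⟨r, hr⟩ := key 1 1
  have h3 := H.conj_PF h2 hd hr
  unfold PF at h1 h3
  have hy : y = 1 := by
    linear_combination h3 - h1 - x * h2
  subst hy
  refine ⟨x, s', ?_, hs', ?_⟩
  · have h5 : x * (x + 1) = 0 := by linear_combination h1
    rcases mul_eq_zero.1 h5 with h6 | h6
    · exact Or.inl h6
    · right; linear_combination h6 - h2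
  · intro u v
    obtain ⟨r, hr⟩ := key u v
    rw [mul_one] at hr
    exact ⟨r, hr⟩

variable (hf : ∀ g : G, (∀ p : Ω, g • p = p) → g = 1)
include hf

/-- two nontrivial admissible elements fixing the first basis vector are equal, and are involutions -/
theorem fix_eq (h2 : (2 : F) = 0) (hδ : ∀ w : F, w ^ 2 + w ≠ δ) {d d' : G} (hd : d ∈ H.Adm)
    (hd' : d' ∈ H.Adm) {s s' : F}
    (h : d * V 1 0 0 * d⁻¹ = V 1 0 s) (h' : d' * V 1 0 0 * d'⁻¹ = V 1 0 s') (hd1 : d ≠ 1) (hd1' : d' ≠ 1) :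
    d * d' = 1 := by
  obtain ⟨x, r, hx, hr, hk⟩ := H.fix_first h2 hd h
  obtain ⟨x', r', hx', hr', hk'⟩ := H.fix_first h2 hd' h'
  have key : ∀ {d : G} {x : F}, d ∈ H.Adm → d ≠ 1 → (x = 0 ∨ x = 1) →
      (∀ u v, ∃ r, d * V u v 0 * d⁻¹ = V (u + v * x) v r) → x = 1 := by
    intro d x hd hd1 hx hk
    rcases hx with hx | hx
    · exfalso
      apply hd1
      apply H.eq_one h2 hδ hf hd
      intro u v
      obtain ⟨r, hr⟩ := hk u v
      rw [hx, mul_zero, add_zero] at hr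
      exact ⟨r, hr⟩
    · exact hx
  have e1 := key hd hd1 hx hk
  have e2 := key hd' hd1' hx' hk'
  apply H.eq_one h2 hδ hf (mul_mem hd hd')
  intro u v
  obtain ⟨s1, h3⟩ := hk' u v
  obtain ⟨s2, h4⟩ := hk (u + v * x') v
  refine ⟨s2 + s1, ?_⟩
  have h5 : d * d' * V u v 0 * (d * d')⁻¹ = d * (d' * V u v 0 * d'⁻¹) * d⁻¹ := by group
  rw [h5, h3, H.conj_z h2 hd h4]
  congr 1
  rw [e1, e2]
  linear_combination v * h2

/-- a subgroup of order `q + 1` contains all admissible elements of odd order -/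
theorem mem_of_odd [Finite F] (h2 : (2 : F) = 0) (hδ : ∀ w : F, w ^ 2 + w ≠ δ) {A : Subgroup G}
    (hA : A ≤ H.Adm) (hAc : Nat.card A = Nat.card F + 1) (hAo : Odd (Nat.card A)) {σ : G} (hσ : σ ∈ H.Adm)
    {m : ℕ} (hm : Odd m) (hσm : σ ^ m = 1) : σ ∈ A := by
  classical
  have hAfin : Finite A := Nat.finite_of_card_ne_zero (by omega)
  -- the image of the first basis vector
  have hex : ∀ d : G, d ∈ H.Adm → ∃ w : {w : F × F // PF δ w.1 w.2 = 1}, ∃ s, d * V 1 0 0 * d⁻¹ = V w.1.1 w.1.2 s := by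
    intro d hd
    obtain ⟨p, r, s, hs⟩ := H.ex hd 1 0
    refine ⟨⟨(p, r), ?_⟩, s, hs⟩
    show PF δ p r = 1
    rw [H.conj_PF h2 hd hs]; unfold PF; ring
  have hcomp : ∀ {d d' : G}, d ∈ H.Adm → d' ∈ H.Adm → ∀ {p r s s' : F}, d * V 1 0 0 * d⁻¹ = V p r s →
      d' * V 1 0 0 * d'⁻¹ = V p r s' → ∃ s'', (d⁻¹ * d') * V 1 0 0 * (d⁻¹ * d')⁻¹ = V 1 0 s'' := by
    intro d d' hd hd' p r s s' h h'
    refine ⟨s + s', ?_⟩
    have e1 : V p r s' = V 0 0 (s + s') * V p r s := by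
      rw [H.hc.mul]
      congr 1
      · ring
      · ring
      · linear_combination -add_self' h2 s
    have e2 := (mem_Adm.1 (inv_mem hd)).2.2.1 (s + s')
    have e3 : V 1 0 (s + s') = V 0 0 (s + s') * V 1 0 0 := H.V_split h2 _ _ _
    calc (d⁻¹ * d') * V 1 0 0 * (d⁻¹ * d')⁻¹ = d⁻¹ * (d' * V 1 0 0 * d'⁻¹) * d := by group
      _ = (d⁻¹ * V 0 0 (s + s')) * (d * V 1 0 0 * d⁻¹) * d := by rw [h', e1, h]; group
      _ = V 1 0 (s + s') := by rw [e2, e3]; group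
  choose f hf2 using hex
  let g : A → {w : F × F // PF δ w.1 w.2 = 1} := fun x => f x (hA x.2)
  have hodd : ∀ x ∈ A, x * x = 1 → x = 1 := by
    intro x hx hxx
    have h3 : orderOf (⟨x, hx⟩ : A) ∣ 2 := orderOf_dvd_of_pow_eq_one (by
      rw [pow_two]; exact Subtype.ext hxx)
    have h4 : orderOf (⟨x, hx⟩ : A) ∣ Nat.card A := orderOf_dvd_natCard _
    rcases (Nat.dvd_prime Nat.prime_two).1 h3 with h5 | h5
    · exact congrArg Subtype.val (orderOf_eq_one_iff.1 h5)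
    · exfalso
      rw [h5] at h4
      exact (Nat.not_even_iff_odd.2 hAo) (even_iff_two_dvd.2 h4)
  have hg : Function.Injective g := by
    rintro ⟨x, hx⟩ ⟨y, hy⟩ hxy
    obtain ⟨s, hs⟩ := hf2 x (hA hx)
    obtain ⟨s', hs'⟩ := hf2 y (hA hy)
    have hxy : f x (hA hx) = f y (hA hy) := hxy
    rw [← hxy] at hs'
    obtain ⟨s'', h''⟩ := hcomp (hA hx) (hA hy) hs hs'
    by_cases h1 : x⁻¹ * y = 1
    · apply Subtype.ext
      exact inv_mul_eq_one.1 h1
    · exfalso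
      have h3 := H.fix_eq hf h2 hδ (hA (mul_mem (inv_mem hx) hy)) (hA (mul_mem (inv_mem hx) hy)) h'' h'' h1 h1
      exact h1 (hodd _ (mul_mem (inv_mem hx) hy) h3)
  have hgs : Function.Surjective g := by
    have h3 : Nat.card {w : F × F // PF δ w.1 w.2 = 1} = Nat.card A := by rw [card_norm_one h2 hδ, hAc]
    exact ((Nat.bijective_iff_injective_and_card g).2 ⟨hg, h3.symm⟩).2
  have hdec : ∀ ρ ∈ H.Adm, ∃ τ ∈ A, ∃ s, (τ⁻¹ * ρ) * V 1 0 0 * (τ⁻¹ * ρ)⁻¹ = V 1 0 s := by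
    intro ρ hρ
    obtain ⟨τ, hτ⟩ := hgs (f ρ hρ)
    obtain ⟨s, hs⟩ := hf2 τ (hA τ.2)
    obtain ⟨s', hs'⟩ := hf2 ρ hρ
    have hτ : f τ (hA τ.2) = f ρ hρ := hτ
    rw [hτ] at hs
    exact ⟨τ, τ.2, hcomp (hA τ.2) hρ hs hs'⟩
  obtain ⟨τ, hτ, s, hs⟩ := hdec σ hσ
  obtain ⟨τ2, hτ2, s2, hs2⟩ := hdec (σ * σ) (mul_mem hσ hσ)
  by_cases h1 : τ⁻¹ * σ = 1
  · rw [inv_mul_eq_one] at h1
    rw [← h1]; exact hτ
  by_cases h3 : τ2⁻¹ * (σ * σ) = 1
  · rw [inv_mul_eq_one] at h3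
    obtain ⟨j, hj⟩ := hm
    have h4 : σ = τ2 ^ (j + 1) := by
      have h5 : σ = σ ^ (m + 1) := by rw [pow_succ, hσm, one_mul]
      rw [h5, h3, ← pow_two, ← pow_mul, hj]
      congr 1
    rw [h4]; exact pow_mem hτ2 _
  · have h4 := H.fix_eq hf h2 hδ (mul_mem (inv_mem (hA hτ)) hσ) (mul_mem (inv_mem (hA hτ2)) (mul_mem hσ hσ))
      hs hs2 h1 h3
    have h5 := H.fix_eq hf h2 hδ (mul_mem (inv_mem (hA hτ)) hσ) (mul_mem (inv_mem (hA hτ)) hσ) hs hs h1 h1
    have h6 : τ⁻¹ * σ = τ2⁻¹ * (σ * σ) := mul_left_cancel (h5.trans h4.symm)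
    have h7 : σ = τ2 * τ⁻¹ := by
      have e1 : τ2 * (τ⁻¹ * σ) = σ * σ := by rw [h6]; group
      have e2 : (τ2 * τ⁻¹) * σ = σ * σ := by rw [← e1]; group
      exact (mul_right_cancel e2).symm
    rw [h7]; exact mul_mem hτ2 (inv_mem hτ)

end HCK

end Cfsg.Agent.PSU3Id
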