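import Mathlib
import Cfsg.Agent.PSU3Id.FullC

/-!
Two unitary rank one groups, extended by tori of order `q + 1` centralising `t` and `E`, are isomorphic.
-/

set_option autoImplicit false

namespace Cfsg.Agent.PSU3Id

open MulAction

namespace HCK

section map

variable {G Ω G1 Ω1 F : Type*} [Group G] [MulAction G Ω] [Group G1] [MulAction G1 Ω1] [Field F] {a : Ω} {t : G}
  {Q : Subgroup G} {δ : F} {V : F → F → F → G} {k : F → G} (H : HCK a t Q δ V k) (f : G →* G1) (ψ : Ω ≃ Ω1)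
  (hψ : ∀ (g : G) (p : Ω), ψ (g • p) = f g • ψ p)
include H hψ

theorem map : HCK (ψ a) (f t) (Q.map f) δ (fun u v z => f (V u v z)) (fun z => f (k z)) := by
  refine ⟨⟨?_, ?_, ?_, ?_, ?_, ?_, ?_, ?_, ?_⟩, ?_, ?_⟩
  · rw [← map_mul, H.hc.tt, map_one]
  · intro h
    rw [← hψ] at h
    exact H.hc.ta (ψ.injective h)
  · intro u v z
    rw [← hψ, H.hc.Q_a]
  · intro g
    rw [Subgroup.mem_map]
    constructor
    · rintro ⟨x, hx, rfl⟩
      obtain ⟨u, v, z, rfl⟩ := (H.hc.mem x).1 hx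
      exact ⟨u, v, z, rfl⟩
    · rintro ⟨u, v, z, rfl⟩
      exact ⟨_, (H.hc.mem _).2 ⟨u, v, z, rfl⟩, rfl⟩
  · intro u v z u' v' z' h
    rw [← hψ, ← hψ, ← hψ] at h
    exact H.hc.inj _ _ _ _ _ _ (ψ.injective h)
  · intro p hp
    obtain ⟨p, rfl⟩ := ψ.surjective p
    obtain ⟨u, v, z, rfl⟩ := H.hc.pts p (fun h => hp (by rw [h]))
    exact ⟨u, v, z, by rw [hψ, hψ]⟩
  · intro u v z u' v' z'
    rw [← map_mul, H.hc.mul]
  · intro z hz
    rw [← hψ, ← hψ, ← hψ, H.hc.t0 z hz, hψ, hψ]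
  · intro u v z huv
    rw [← hψ, ← hψ, ← hψ, H.hc.t1 u v z huv, hψ, hψ]
  · intro z hz
    rw [H.ke z hz]; simp only [map_mul]
  · intro m hm u v z
    rw [← map_inv, ← map_mul, ← map_mul, H.kV m hm]

end map

end HCK

/-- comparison of the extended groups -/
theorem full_compare {G Ω G' Ω' F : Type*} [Group G] [MulAction G Ω] [Group G'] [MulAction G' Ω'] [Field F]
    [Finite F] {a : Ω} {t : G} {Q : Subgroup G} {δ : F} {V : F → F → F → G} {k : F → G}
    {a' : Ω'} {t' : G'} {Q' : Subgroup G'} {V' : F → F → F → G'} {k' : F → G'}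
    (H : HCK a t Q δ V k) (H' : HCK a' t' Q' δ V' k') (h2 : (2 : F) = 0) (hδ : ∀ w : F, w ^ 2 + w ≠ δ)
    (hf : ∀ g : G, (∀ p : Ω, g • p = p) → g = 1) (hf' : ∀ g : G', (∀ p : Ω', g • p = p) → g = 1)
    {A : Subgroup G} {A' : Subgroup G'} (hA : A ≤ H.Adm) (hA' : A' ≤ H'.Adm)
    (hAc : Nat.card A = Nat.card F + 1) (hAc' : Nat.card A' = Nat.card F + 1) (hodd : Odd (Nat.card F + 1)) :
    Nonempty (Subgroup.closure ({t} ∪ (Q : Set G) ∪ (A : Set G)) ≃*
      Subgroup.closure ({t'} ∪ (Q' : Set G') ∪ (A' : Set G'))) := by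
  classical
  let e := Equiv.ofBijective _ H.hc.pt_bij
  let e' := Equiv.ofBijective _ H'.hc.pt_bij
  have he : ∀ x, e x = H.hc.pt x := fun x => rfl
  have he' : ∀ x, e' x = H'.hc.pt x := fun x => rfl
  let X := Option (F × F × F)
  let ρ : G →* Equiv.Perm X := (e.symm.permCongrHom).toMonoidHom.comp (MulAction.toPermHom G Ω)
  let ρ' : G' →* Equiv.Perm X := (e'.symm.permCongrHom).toMonoidHom.comp (MulAction.toPermHom G' Ω')
  have hρ : ∀ g p, e.symm (g • p) = ρ g • e.symm p := by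
    intro g p
    show e.symm (g • p) = e.symm (g • e (e.symm p))
    rw [e.apply_symm_apply]
  have hρ' : ∀ g p, e'.symm (g • p) = ρ' g • e'.symm p := by
    intro g p
    show e'.symm (g • p) = e'.symm (g • e' (e'.symm p))
    rw [e'.apply_symm_apply]
  have hρx : ∀ g x, e (ρ g x) = g • e x := by
    intro g x
    show e (e.symm (g • e x)) = g • e x
    rw [e.apply_symm_apply]
  have hρx' : ∀ g x, e' (ρ' g x) = g • e' x := by
    intro g x
    show e' (e'.symm (g • e' x)) = g • e' x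
    rw [e'.apply_symm_apply]
  have H1 := H.map ρ e.symm hρ
  have H1' := H'.map ρ' e'.symm hρ'
  have ha : e.symm a = e'.symm a' := by
    have h3 : e none = a := rfl
    have h4 : e' none = a' := rfl
    rw [← h3, ← h4, e.symm_apply_apply, e'.symm_apply_apply]
  have ht : ρ t = ρ' t' := by
    ext1 x
    apply e.injective
    have h3 : e' (ρ' t' x) = e' (HC.tm δ x) := by rw [hρx', he', H'.hc.pt_t h2]; rfl
    rw [hρx, he, H.hc.pt_t h2, e'.injective h3]; rfl
  have hV : ∀ u v z, ρ (V u v z) = ρ' (V' u v z) := by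
    intro u v z
    ext1 x
    apply e.injective
    have h3 : e' (ρ' (V' u v z) x) = e' (HC.vm δ u v z x) := by rw [hρx', he', H'.hc.pt_V]; rfl
    rw [hρx, he, H.hc.pt_V, e'.injective h3]; rfl
  have hQ : Q.map ρ = Q'.map ρ' := by
    ext g
    rw [H1.hc.mem, H1'.hc.mem]
    simp only [hV]
  have hadm : ∀ d, d ∈ H1.Adm ↔ d ∈ H1'.Adm := by
    intro d
    rw [HCK.mem_Adm, HCK.mem_Adm, ha, ht, hQ]
    simp only [hV]
  have hfP : ∀ g : Equiv.Perm X, (∀ p : X, g • p = p) → g = 1 := by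
    intro g hg
    ext1 x
    exact hg x
  have hinj : Function.Injective ρ := by
    rw [injective_iff_map_eq_one]
    intro g hg
    apply hf
    intro p
    obtain ⟨x, rfl⟩ := e.surjective p
    rw [← hρx, hg]; rfl
  have hinj' : Function.Injective ρ' := by
    rw [injective_iff_map_eq_one]
    intro g hg
    apply hf'
    intro p
    obtain ⟨x, rfl⟩ := e'.surjective p
    rw [← hρx', hg]; rfl
  have hmA : A.map ρ ≤ H1.Adm := by
    rintro _ ⟨d, hd, rfl⟩
    obtain ⟨m1, m2, m3, m4⟩ := HCK.mem_Adm.1 (hA hd)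
    rw [HCK.mem_Adm]
    refine ⟨?_, ?_, ?_, ?_⟩
    · rw [← hρ, m1]
    · rw [← map_mul, m2, map_mul]
    · intro z
      rw [← map_mul, m3, map_mul]
    · intro g
      constructor
      · rintro ⟨x, hx, rfl⟩
        exact ⟨d * x * d⁻¹, (m4 x).1 hx, by rw [map_mul, map_mul, map_inv]⟩
      · rintro ⟨x, hx, hxe⟩
        refine ⟨d⁻¹ * x * d, ?_, ?_⟩
        · rw [SetLike.mem_coe, m4]
          have : d * (d⁻¹ * x * d) * d⁻¹ = x := by group
          rw [this]; exact hx
        · rw [map_mul, map_mul, map_inv, hxe]; group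
  have hmA' : A'.map ρ' ≤ H1'.Adm := by
    rintro _ ⟨d, hd, rfl⟩
    obtain ⟨m1, m2, m3, m4⟩ := HCK.mem_Adm.1 (hA' hd)
    rw [HCK.mem_Adm]
    refine ⟨?_, ?_, ?_, ?_⟩
    · rw [← hρ', m1]
    · rw [← map_mul, m2, map_mul]
    · intro z
      rw [← map_mul, m3, map_mul]
    · intro g
      constructor
      · rintro ⟨x, hx, rfl⟩
        exact ⟨d * x * d⁻¹, (m4 x).1 hx, by rw [map_mul, map_mul, map_inv]⟩
      · rintro ⟨x, hx, hxe⟩
        refine ⟨d⁻¹ * x * d, ?_, ?_⟩
        · rw [SetLike.mem_coe, m4]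
          have : d * (d⁻¹ * x * d) * d⁻¹ = x := by group
          rw [this]; exact hx
        · rw [map_mul, map_mul, map_inv, hxe]; group
  have hcA : Nat.card (A.map ρ) = Nat.card F + 1 := by rw [Subgroup.card_map_of_injective hinj, hAc]
  have hcA' : Nat.card (A'.map ρ') = Nat.card F + 1 := by rw [Subgroup.card_map_of_injective hinj', hAc']
  have hfin : Finite A := Nat.finite_of_card_ne_zero (by omega)
  have hfin' : Finite A' := Nat.finite_of_card_ne_zero (by omega)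
  have hAA : ∀ g, g ∈ A.map ρ ↔ g ∈ A'.map ρ' := by
    intro g
    constructor
    · intro hg
      obtain ⟨d, hd, rfl⟩ := hg
      refine H1'.mem_of_odd hfP h2 hδ hmA' hcA' (by rw [hcA']; exact hodd)
        ((hadm _).1 (hmA ⟨d, hd, rfl⟩)) hodd ?_
      rw [← map_pow, ← hAc, ← SubmonoidClass.coe_pow (⟨d, hd⟩ : A), pow_card_eq_one']
      simp
    · intro hg
      obtain ⟨d, hd, rfl⟩ := hg
      refine H1.mem_of_odd hfP h2 hδ hmA hcA (by rw [hcA]; exact hodd)
        ((hadm _).2 (hmA' ⟨d, hd, rfl⟩)) hodd ?_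
      rw [← map_pow, ← hAc', ← SubmonoidClass.coe_pow (⟨d, hd⟩ : A'), pow_card_eq_one']
      simp
  have hcl : (Subgroup.closure ({t} ∪ (Q : Set G) ∪ (A : Set G))).map ρ =
      (Subgroup.closure ({t'} ∪ (Q' : Set G') ∪ (A' : Set G'))).map ρ' := by
    rw [MonoidHom.map_closure, MonoidHom.map_closure, Set.image_union, Set.image_union, Set.image_union,
      Set.image_union, Set.image_singleton, Set.image_singleton, ht]
    have e1 : ρ '' (Q : Set G) = ρ' '' (Q' : Set G') := by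
      rw [← Subgroup.coe_map, ← Subgroup.coe_map, hQ]
    have e2 : ρ '' (A : Set G) = ρ' '' (A' : Set G') := by
      rw [← Subgroup.coe_map, ← Subgroup.coe_map]
      ext g; exact hAA g
    rw [e1, e2]
  exact ⟨(Subgroup.equivMapOfInjective _ ρ hinj).trans
    ((MulEquiv.subgroupCongr hcl).trans (Subgroup.equivMapOfInjective _ ρ' hinj').symm)⟩

end Cfsg.Agent.PSU3Id
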