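import Mathlib
import Cfsg.Agent.PSU3Id.FullD

/-!
The recognition theorem for `PGU₃(q)`, `q` even, as a rank one group.
-/

set_option autoImplicit false

namespace Cfsg.Agent.PSU3Id

open MulAction Cfsg.Agent.SuzId Cfsg Cfsg.Agent.H20 Cfsg.Agent.H20.RO

/-- the torus of order `q + 1` -/
def TA {G Ω : Type*} [Group G] [MulAction G Ω] (a : Ω) (t : G) : Subgroup G :=
  DD G a t ⊓ Subgroup.centralizer {t}

theorem mem_TA {G Ω : Type*} [Group G] [MulAction G Ω] {a : Ω} {t d : G} :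
    d ∈ TA a t ↔ d ∈ DD G a t ∧ d * t = t * d := by
  constructor
  · rintro ⟨h1, h2⟩
    exact ⟨h1, (Subgroup.mem_centralizer_iff.1 h2 t rfl).symm⟩
  · rintro ⟨h1, h2⟩
    refine ⟨h1, Subgroup.mem_centralizer_iff.2 ?_⟩
    intro x hx
    rw [Set.mem_singleton_iff] at hx
    rw [hx]; exact h2.symm

/-- the hypotheses for `PGU₃(q)` -/
structure FU {G Ω : Type*} [Group G] [MulAction G Ω] (a : Ω) (t : G) (Q C : Subgroup G) (q : ℕ) : Prop where
  uh : UH a t Q C q
  cardA : Nat.card (TA a t : Subgroup G) = q + 1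
  cen : ∀ d ∈ TA a t, ∀ e ∈ Q, e * e = 1 → d * e = e * d

theorem FU.closure_top {G Ω : Type*} [Group G] [MulAction G Ω] [Finite G] {a : Ω} {t : G} {Q C : Subgroup G} {q : ℕ}
    (h : FU a t Q C q) : Subgroup.closure ({t} ∪ (Q : Set G) ∪ ((TA a t : Subgroup G) : Set G)) = ⊤ := by
  have hS := h.uh.rk.hS
  obtain ⟨j, hjQ, hj1, hjj, hj⟩ := h.uh.j
  obtain ⟨L, hL⟩ : ∃ L, L = Subgroup.closure ({t} ∪ (Q : Set G) ∪ ((TA a t : Subgroup G) : Set G)) := ⟨_, rfl⟩
  rw [← hL]
  have ht : t ∈ L := by rw [hL]; exact Subgroup.subset_closure (Or.inl (Or.inl rfl))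
  have hQ : ∀ x ∈ Q, x ∈ L := fun x hx => by rw [hL]; exact Subgroup.subset_closure (Or.inl (Or.inr hx))
  have hA : ∀ x ∈ TA a t, x ∈ L := fun x hx => by rw [hL]; exact Subgroup.subset_closure (Or.inr hx)
  have hC : ∀ x ∈ C, x ∈ L := by
    intro x hx
    have h1 : x ∈ Subgroup.closure ({t} ∪ (C : Set G) ∪ (Q : Set G)) :=
      Subgroup.subset_closure (Or.inl (Or.inr hx))
    rw [h.uh.closure_eq] at h1
    rw [hL]
    exact Subgroup.closure_mono Set.subset_union_left h1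
  have hD : ∀ d ∈ DD G a t, d ∈ L := by
    intro d hd
    have hja := Q_fix hS hjQ
    have hda := (mem_DD.1 hd).1
    obtain ⟨k, hk, hke⟩ := K_exists hS hj1 hjj hja (s' := d * j * d⁻¹) (by
      intro e
      apply hj1
      calc j = d⁻¹ * (d * j * d⁻¹) * d := by group
        _ = 1 := by rw [e]; group) (by
      calc d * j * d⁻¹ * (d * j * d⁻¹) = d * (j * j) * d⁻¹ := by group
        _ = 1 := by rw [hjj]; group) (by
      rw [mul_smul, mul_smul, inv_smul_eq_iff.2 hda.symm, hja, hda])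
    have hkC : k ∈ C := (h.uh.rk.mem k).2 hk
    have h1 : (k * d) * j = j * (k * d) := by
      calc (k * d) * j = k * (d * j * d⁻¹) * d := by group
        _ = k * (k⁻¹ * j * k) * d := by rw [hke]
        _ = _ := by group
    have hkd : k * d ∈ DD G a t := mul_mem hk.1 hd
    have h3 : (k * d) * t = t * (k * d) := by
      refine (cD_t_eq hS hja hj1 hjj hjQ ?_ hkd).2 h1
      rw [hj, inv_eq_of_mul_eq_one_left hjj]
    have h4 : d = k⁻¹ * (k * d) := by group
    rw [h4]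
    exact mul_mem (inv_mem (hC _ hkC)) (hA _ (mem_TA.2 ⟨hkd, h3⟩))
  have hH : ∀ g : G, g • a = a → g ∈ L := by
    intro g hg
    obtain ⟨x, hx, hxe⟩ : ∃ x ∈ Q, x • t • a = g • t • a := by
      apply exists_q hS
      intro e
      apply ta_ne hS
      apply smul_left_cancel g
      rw [e, hg]
    have h1 : g = x * (x⁻¹ * g) := by group
    rw [h1]
    refine mul_mem (hQ _ hx) (hD _ (mem_DD.2 ⟨?_, ?_⟩))
    · rw [mul_smul, hg, inv_smul_eq_iff]
      exact (Q_fix hS hx).symm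
    · rw [mul_smul, ← hxe, inv_smul_smul]
  rw [eq_top_iff]
  intro g _
  by_cases hg : g • a = a
  · exact hH g hg
  · obtain ⟨x, hx, hxe⟩ := exists_q hS hg
    have h1 : g = (x * t) * ((x * t)⁻¹ * g) := by group
    rw [h1]
    refine mul_mem (mul_mem (hQ _ hx) ht) (hH _ ?_)
    rw [mul_smul, ← hxe, mul_inv_rev, mul_smul, inv_smul_smul, inv_smul_smul]

/-- two groups with the same parameter are isomorphic -/
theorem FU.iso {G Ω G' Ω' : Type*} [Group G] [MulAction G Ω] [Finite G] [Group G'] [MulAction G' Ω'] [Finite G']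
    {a : Ω} {t : G} {Q C : Subgroup G} {a' : Ω'} {t' : G'} {Q' C' : Subgroup G'} {q : ℕ}
    (h : FU a t Q C q) (h' : FU a' t' Q' C' q) : Nonempty (G ≃* G') := by
  classical
  obtain ⟨n, hn, hcE⟩ : ∃ n, 2 ≤ n ∧ q = 2 ^ n := by
    let _ := h.uh.rk.act
    obtain ⟨n, hn, hc⟩ := h.uh.rk.setup.exists_card_E
    exact ⟨n, hn, by rw [← hc]; exact h.uh.cardE.symm⟩
  have : Fact (Nat.Prime 2) := ⟨Nat.prime_two⟩
  let F := GaloisField 2 n
  have hF : Nat.card F = 2 ^ n := GaloisField.card 2 n (by omega)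
  have hFfin : Finite F := Nat.finite_of_card_ne_zero (by rw [hF]; positivity)
  have h2 : (2 : F) = 0 := CharTwo.two_eq_zero
  obtain ⟨e, k, hg, -⟩ := h.uh.exists_HG F (by rw [hF, hcE])
  obtain ⟨e', k', hg', -⟩ := h'.uh.exists_HG F (by rw [hF, hcE])
  obtain ⟨δ, hδ⟩ : ∃ δ : F, ∀ w : F, w ^ 2 + w ≠ δ := by
    by_contra hcon
    push Not at hcon
    have hsurj : Function.Surjective (fun w : F => w ^ 2 + w) := hcon
    have hinj := Finite.injective_iff_surjective.2 hsurj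
    have h3 : (0 : F) = 1 := by
      apply hinj
      show (0 : F) ^ 2 + 0 = 1 ^ 2 + 1
      linear_combination -h2
    exact zero_ne_one h3
  obtain ⟨V, H, hVe⟩ := hg.exists_HCK hδ
  obtain ⟨V', H', hVe'⟩ := hg'.exists_HCK hδ
  have hA : TA a t ≤ H.Adm := by
    intro d hd
    obtain ⟨hd1, hd2⟩ := mem_TA.1 hd
    have hda := (mem_DD.1 hd1).1
    have hda' : d⁻¹ • a = a := inv_smul_eq_iff.2 hda.symm
    rw [HCK.mem_Adm]
    refine ⟨hda, hd2, ?_, ?_⟩
    · intro z
      rw [hVe]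
      exact h.cen d hd _ (hg.e_mem z) (hg.e_e z)
    · intro g
      constructor
      · intro hgQ
        exact h.uh.rk.hS.conj_mem d hda g hgQ
      · intro hgQ
        have := h.uh.rk.hS.conj_mem d⁻¹ hda' _ hgQ
        have e1 : d⁻¹ * (d * g * d⁻¹) * d⁻¹⁻¹ = g := by group
        rwa [e1] at this
  have hA' : TA a' t' ≤ H'.Adm := by
    intro d hd
    obtain ⟨hd1, hd2⟩ := mem_TA.1 hd
    have hda := (mem_DD.1 hd1).1
    have hda' : d⁻¹ • a' = a' := inv_smul_eq_iff.2 hda.symm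
    rw [HCK.mem_Adm]
    refine ⟨hda, hd2, ?_, ?_⟩
    · intro z
      rw [hVe']
      exact h'.cen d hd _ (hg'.e_mem z) (hg'.e_e z)
    · intro g
      constructor
      · intro hgQ
        exact h'.uh.rk.hS.conj_mem d hda g hgQ
      · intro hgQ
        have := h'.uh.rk.hS.conj_mem d⁻¹ hda' _ hgQ
        have e1 : d⁻¹ * (d * g * d⁻¹) * d⁻¹⁻¹ = g := by group
        rwa [e1] at this
  obtain ⟨φ⟩ := full_compare H H' h2 hδ h.uh.faith h'.uh.faith hA hA' (by rw [h.cardA, hF, hcE])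
    (by rw [h'.cardA, hF, hcE]) (by
      rw [hF]
      exact ((Nat.even_pow.2 ⟨even_two, by omega⟩).add_one))
  rw [h.closure_top, h'.closure_top] at φ
  exact ⟨Subgroup.topEquiv.symm.trans (φ.trans Subgroup.topEquiv)⟩

end Cfsg.Agent.PSU3Id
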