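import Mathlib
import Cfsg.Agent.PSU3Id.FullE
import Cfsg.Agent.H30.BendH

/-!
Recognition of `PGU₃(q)`, `q` even, from the centralizer of an involution: the local analysis.
-/

set_option autoImplicit false

namespace Cfsg.Agent.PSU3Id

open MulAction Cfsg.Agent.SuzId Cfsg Cfsg.Agent.H20 Cfsg.Agent.H20.RO Cfsg.Agent.H30.Bend
open scoped Pointwise

/-- what we need to know about the centralizer of an involution -/
structure CK (K : Type*) [Group K] (q : ℕ) : Prop where
  card : Nat.card K = q ^ 3 * (q + 1)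
  two : ∀ g h : K, (∃ k : ℕ, g ^ 2 ^ k = 1) → (∃ k : ℕ, h ^ 2 ^ k = 1) → ∃ k : ℕ, (g * h) ^ 2 ^ k = 1
  cen : ∀ y : K, y * y = 1 → ∀ g : K, g * y = y * g
  cardE : Nat.card {y : K // y * y = 1} = q
  self : ∀ g : K, Odd (orderOf g) → (∀ y : K, (∃ k : ℕ, y ^ 2 ^ k = 1) → g * y = y * g) → g = 1

theorem CK.congr {K K' : Type*} [Group K] [Group K'] {q : ℕ} (e : K ≃* K') (h : CK K q) : CK K' q := by
  have hpow : ∀ (y : K') (n : ℕ), y ^ n = 1 ↔ (e.symm y) ^ n = 1 := by
    intro y n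
    rw [← map_pow, map_eq_one_iff e.symm e.symm.injective]
  constructor
  · rw [← Nat.card_congr e.toEquiv]; exact h.card
  · intro g g' ⟨k, hk⟩ ⟨l, hl⟩
    obtain ⟨m, hm⟩ := h.two (e.symm g) (e.symm g') ⟨k, (hpow _ _).1 hk⟩ ⟨l, (hpow _ _).1 hl⟩
    exact ⟨m, (hpow _ _).2 (by rw [map_mul]; exact hm)⟩
  · intro y hy g
    apply e.symm.injective
    rw [map_mul, map_mul]
    apply h.cen
    rw [← map_mul, hy, map_one]
  · rw [← h.cardE]
    refine Nat.card_congr (e.symm.toEquiv.subtypeEquiv fun y => ?_)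
    show y * y = 1 ↔ e.symm y * e.symm y = 1
    rw [← map_mul, map_eq_one_iff e.symm e.symm.injective]
  · intro g hg hy
    rw [← map_eq_one_iff e.symm e.symm.injective]
    apply h.self
    · rw [MulEquiv.orderOf_eq]; exact hg
    · intro y ⟨k, hk⟩
      have h1 := hy (e y) ⟨k, by rw [← map_pow, hk, map_one]⟩
      apply e.injective
      rw [map_mul, map_mul, e.apply_symm_apply]
      exact h1

section

variable {G : Type*} [Group G] [Finite G] {q : ℕ}

omit [Finite G] in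
theorem pow_two_of_mem {P : Sylow 2 G} {y : G} (hy : y ∈ P) : ∃ k : ℕ, y ^ 2 ^ k = 1 := by
  obtain ⟨k, hk⟩ := P.2 ⟨y, hy⟩
  exact ⟨k, congrArg Subtype.val hk⟩

theorem odd_card_of_no_inv {N : Subgroup G} (hN : ∀ x ∈ N, x * x = 1 → x = 1) : Odd (Nat.card N) := by
  rw [← Nat.not_even_iff_odd, even_iff_two_dvd]
  intro h
  have : Fact (Nat.Prime 2) := ⟨Nat.prime_two⟩
  obtain ⟨x, hx⟩ := exists_prime_orderOf_dvd_card' 2 h
  have h1 : x * x = 1 := by rw [← pow_two, ← hx]; exact pow_orderOf_eq_one x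
  have h2 : x = 1 := Subtype.ext (hN x.1 x.2 (congrArg Subtype.val h1))
  rw [h2, orderOf_one] at hx
  omega

omit [Finite G] in
theorem mem_C {x y : G} : y ∈ Subgroup.centralizer ({x} : Set G) ↔ y * x = x * y :=
  Subgroup.mem_centralizer_singleton_iff

omit [Finite G] in
theorem CK.le (hC : ∀ x : G, orderOf x = 2 → CK (Subgroup.centralizer ({x} : Set G)) q) {x y : G}
    (hx : orderOf x = 2) (hyy : y * y = 1) (hxy : x * y = y * x) :
    Subgroup.centralizer ({x} : Set G) ≤ Subgroup.centralizer ({y} : Set G) := by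
  intro g hg
  have h1 := (hC x hx).cen ⟨y, mem_C.2 hxy.symm⟩ (Subtype.ext hyy) ⟨g, hg⟩
  exact mem_C.2 (congrArg Subtype.val h1)

theorem CK.eq (hC : ∀ x : G, orderOf x = 2 → CK (Subgroup.centralizer ({x} : Set G)) q) {x y : G}
    (hx : orderOf x = 2) (hy : orderOf y = 2) (hxy : x * y = y * x) :
    Subgroup.centralizer ({x} : Set G) = Subgroup.centralizer ({y} : Set G) :=
  le_antisymm (CK.le hC hx (StrEmb.mul_self_eq_one hy) hxy) (CK.le hC hy (StrEmb.mul_self_eq_one hx) hxy.symm)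

/-- the Sylow 2-subgroup containing an involution `x` consists of the 2-elements of its centralizer -/
theorem CK.mem_iff (hC : ∀ x : G, orderOf x = 2 → CK (Subgroup.centralizer ({x} : Set G)) q) {x : G}
    (hx : orderOf x = 2) {P : Sylow 2 G} (hxP : x ∈ P) (y : G) :
    y ∈ P ↔ y * x = x * y ∧ ∃ k : ℕ, y ^ 2 ^ k = 1 := by
  have : Fact (Nat.Prime 2) := ⟨Nat.prime_two⟩
  -- the set of 2-elements of `C(x)`
  let S : Subgroup G :=
    { carrier := {y | y * x = x * y ∧ ∃ k : ℕ, y ^ 2 ^ k = 1}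
      one_mem' := ⟨by rw [one_mul, mul_one], 0, one_pow _⟩
      mul_mem' := by
        rintro g h ⟨hg, hg2⟩ ⟨hh, hh2⟩
        have h1 := (hC x hx).two ⟨g, mem_C.2 hg⟩ ⟨h, mem_C.2 hh⟩ (by
          obtain ⟨k, hk⟩ := hg2
          exact ⟨k, Subtype.ext hk⟩) (by
          obtain ⟨k, hk⟩ := hh2
          exact ⟨k, Subtype.ext hk⟩)
        obtain ⟨k, hk⟩ := h1
        refine ⟨?_, k, congrArg Subtype.val hk⟩
        rw [mul_assoc, hh, ← mul_assoc, hg, mul_assoc]
      inv_mem' := by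
        rintro g ⟨hg, k, hk⟩
        refine ⟨?_, k, by rw [inv_pow, hk, inv_one]⟩
        calc g⁻¹ * x = g⁻¹ * (x * g) * g⁻¹ := by group
          _ = x * g⁻¹ := by rw [← hg]; group }
  have hS : IsPGroup 2 S := by
    rintro ⟨y, hy, k, hk⟩
    exact ⟨k, Subtype.ext hk⟩
  -- an involution in the centre of `P`
  have hPne : Nontrivial (P : Subgroup G) := by
    refine ⟨⟨x, hxP⟩, 1, fun h => ?_⟩
    have h1 : x = 1 := congrArg Subtype.val h
    rw [h1, orderOf_one] at hx
    omega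
  have hcn : Nontrivial (Subgroup.center (P : Subgroup G)) := P.isPGroup'.center_nontrivial
  have hcp : IsPGroup 2 (Subgroup.center (P : Subgroup G)) := P.isPGroup'.to_subgroup _
  obtain ⟨z, hz⟩ : ∃ z : Subgroup.center (P : Subgroup G), orderOf z = 2 := by
    obtain ⟨m, hm⟩ := IsPGroup.iff_card.1 hcp
    apply exists_prime_orderOf_dvd_card'
    rw [hm]
    apply dvd_pow_self
    rintro rfl
    rw [pow_zero] at hm
    exact (Finite.one_lt_card (α := Subgroup.center (P : Subgroup G))).ne' hm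
  have hz' : orderOf ((z : (P : Subgroup G)) : G) = 2 := by
    rw [Subgroup.orderOf_coe, Subgroup.orderOf_coe, hz]
  have hzc : ∀ y ∈ P, y * ((z : (P : Subgroup G)) : G) = ((z : (P : Subgroup G)) : G) * y := by
    intro y hy
    exact congrArg Subtype.val (Subgroup.mem_center_iff.1 z.2 ⟨y, hy⟩)
  have hCxz := CK.eq hC hz' hx (hzc x hxP).symm
  have hPS : (P : Subgroup G) ≤ S := by
    intro y hy
    refine ⟨?_, pow_two_of_mem hy⟩
    rw [← mem_C, ← hCxz]
    exact mem_C.2 (hzc y hy)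
  have h1 : S = P := P.is_maximal' hS hPS
  constructor
  · intro hy
    exact hPS hy
  · intro hy
    have : y ∈ S := hy
    rw [h1] at this
    exact this

theorem CK.eq_syl (hC : ∀ x : G, orderOf x = 2 → CK (Subgroup.centralizer ({x} : Set G)) q) {x : G}
    (hx : orderOf x = 2) {P P' : Sylow 2 G} (hxP : x ∈ P) (hxP' : x ∈ P') : P = P' := by
  apply Sylow.ext
  ext y
  exact (CK.mem_iff hC hx hxP y).trans (CK.mem_iff hC hx hxP' y).symm

theorem CK.bh (hC : ∀ x : G, orderOf x = 2 → CK (Subgroup.centralizer ({x} : Set G)) q)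
    (hex : ∃ x : G, orderOf x = 2) (hS : ∀ P : Sylow 2 G, ¬ (P : Subgroup G).Normal) : BH G (Sylow 2 G) where
  trans := by
    have : Fact (Nat.Prime 2) := ⟨Nat.prime_two⟩
    exact fun a b => MulAction.exists_smul_eq G a b
  inv := by
    intro t ht
    have hp : IsPGroup 2 (Subgroup.zpowers t) := by
      apply IsPGroup.of_card (n := 1)
      rw [Nat.card_zpowers, ht, pow_one]
    obtain ⟨P, hP⟩ := hp.exists_le_sylow
    have htP : t ∈ P := hP (Subgroup.mem_zpowers t)
    refine ⟨P, TI.smul_of_mem htP, ?_⟩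
    intro P' hP'
    exact CK.eq_syl hC ht (TI.mem_of_two (m := 1) (by rw [pow_one, pow_two]; exact StrEmb.mul_self_eq_one ht) hP') htP
  nt := by
    have : Fact (Nat.Prime 2) := ⟨Nat.prime_two⟩
    have P : Sylow 2 G := default
    by_contra hcon
    push Not at hcon
    apply hS P
    apply Subgroup.normalizer_eq_top_iff.1
    rw [eq_top_iff]
    intro g _
    exact Sylow.smul_eq_iff_mem_normalizer.1 (hcon (g • P) P)
  ex := hex

omit [Finite G] in
theorem CK.tc : TC G (Sylow 2 G) := by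
  intro P x y hx hy ⟨i, hi⟩ ⟨j, hj⟩
  exact pow_two_of_mem (mul_mem (TI.mem_of_two hi hx) (TI.mem_of_two hj hy))

omit [Finite G] in
theorem CK.comm2 (hC : ∀ x : G, orderOf x = 2 → CK (Subgroup.centralizer ({x} : Set G)) q)
    (hex : ∃ x : G, orderOf x = 2) (hq : 2 < q) : Comm2 G := by
  classical
  obtain ⟨x, hx⟩ := hex
  have h1 := (hC x hx).cardE
  by_contra hcon
  have hkey : ∀ y : Subgroup.centralizer ({x} : Set G), y * y = 1 → y ≠ 1 → (y : G) = x := by
    intro y hy hy1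
    by_contra hne
    apply hcon
    refine ⟨x, y, hx, order_two (fun h => hy1 (Subtype.ext h)) (congrArg Subtype.val hy), Ne.symm hne, ?_⟩
    exact (mem_C.1 y.2).symm
  have h2 : Function.Injective (fun y : {y : Subgroup.centralizer ({x} : Set G) // y * y = 1} => decide (y.1 = 1)) := by
    intro y y' h
    simp only [decide_eq_decide] at h
    by_cases hy : y.1 = 1
    · exact Subtype.ext (hy.trans (h.1 hy).symm)
    · have hy' : y'.1 ≠ 1 := fun h' => hy (h.2 h')
      exact Subtype.ext (Subtype.ext ((hkey _ y.2 hy).trans (hkey _ y'.2 hy').symm))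
  have h3 := Nat.card_le_card_of_injective _ h2
  rw [h1] at h3
  simp at h3
  omega

theorem CK.card_syl (hC : ∀ x : G, orderOf x = 2 → CK (Subgroup.centralizer ({x} : Set G)) q)
    {n : ℕ} (hn : n ≠ 0) (hq : q = 2 ^ n) {x : G} (hx : orderOf x = 2) {P : Sylow 2 G} (hxP : x ∈ P) :
    Nat.card P = q ^ 3 := by
  have : Fact (Nat.Prime 2) := ⟨Nat.prime_two⟩
  have h1 : (P : Subgroup G) ≤ Subgroup.centralizer ({x} : Set G) := fun y hy =>
    mem_C.2 ((CK.mem_iff hC hx hxP y).1 hy).1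
  have h2 : Nat.card P ∣ q ^ 3 * (q + 1) := by
    rw [← (hC x hx).card]
    exact Subgroup.card_dvd_of_le h1
  obtain ⟨m, hm⟩ := IsPGroup.iff_card.1 P.isPGroup'
  have h3 : Nat.Coprime (Nat.card P) (q + 1) := by
    rw [hm]
    apply Nat.Coprime.pow_left
    rw [Nat.coprime_two_left, hq]
    exact (Nat.even_pow.2 ⟨even_two, hn⟩).add_one
  apply Nat.dvd_antisymm (h3.dvd_of_dvd_mul_right h2)
  have h4 : q ^ 3 = 2 ^ (n * 3) := by rw [hq, ← pow_mul]
  rw [h4]
  apply P.pow_dvd_card_of_pow_dvd_card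
  rw [← h4]
  refine dvd_trans (Dvd.intro _ (hC x hx).card.symm) (Subgroup.card_subgroup_dvd_card _)

theorem CK.cardE_syl (hC : ∀ x : G, orderOf x = 2 → CK (Subgroup.centralizer ({x} : Set G)) q)
    {x : G} (hx : orderOf x = 2) {P : Sylow 2 G} (hxP : x ∈ P) :
    Nat.card {y : (P : Subgroup G) // y * y = 1} = q := by
  rw [← (hC x hx).cardE]
  have hsq : ∀ y : {y : (P : Subgroup G) // y * y = 1}, (y.1 : G) * (y.1 : G) = 1 := fun y =>
    congrArg Subtype.val y.2
  have hsq' : ∀ y : {y : Subgroup.centralizer ({x} : Set G) // y * y = 1}, (y.1 : G) * (y.1 : G) = 1 := fun y =>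
    congrArg Subtype.val y.2
  refine Nat.card_congr
    { toFun := fun y => ⟨⟨y.1.1, mem_C.2 ((CK.mem_iff hC hx hxP _).1 y.1.2).1⟩, Subtype.ext (hsq y)⟩
      invFun := fun y => ⟨⟨y.1.1, (CK.mem_iff hC hx hxP _).2 ⟨mem_C.1 y.1.2, 1, by
        rw [pow_one, pow_two]; exact hsq' y⟩⟩, Subtype.ext (hsq' y)⟩
      left_inv := fun y => rfl
      right_inv := fun y => rfl }

/-- the action on the Sylow 2-subgroups is faithful -/
theorem CK.faith (hC : ∀ x : G, orderOf x = 2 → CK (Subgroup.centralizer ({x} : Set G)) q)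
    (hex : ∃ x : G, orderOf x = 2) (hS : ∀ P : Sylow 2 G, ¬ (P : Subgroup G).Normal) (g : G)
    (hg : ∀ P : Sylow 2 G, g • P = P) : g = 1 := by
  have hΩ := CK.bh hC hex hS
  obtain ⟨a, b, hab⟩ := hΩ.nt
  let N : Subgroup G := (MulAction.toPermHom G (Sylow 2 G)).ker
  have hN : ∀ x, x ∈ N ↔ ∀ P : Sylow 2 G, x • P = P := by
    intro x
    rw [MonoidHom.mem_ker]
    constructor
    · intro h P
      have := congrArg (fun f : Equiv.Perm (Sylow 2 G) => f P) h
      exact this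
    · intro h
      ext1 P
      exact h P
  have hodd : Odd (Nat.card N) := by
    apply odd_card_of_no_inv
    intro x hxN hxx
    by_contra hx1
    obtain ⟨c, hc, hu⟩ := hΩ.inv x (order_two hx1 hxx)
    exact hab ((hu a ((hN x).1 hxN a)).trans (hu b ((hN x).1 hxN b)).symm)
  obtain ⟨x, hx⟩ := hex
  obtain ⟨P, hP, -⟩ := hΩ.inv x hx
  have hxP : x ∈ P := TI.mem_of_two (m := 1) (by rw [pow_one, pow_two]; exact StrEmb.mul_self_eq_one hx) hP
  have hgN : g ∈ N := (hN g).2 hg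
  have hcomm : ∀ y ∈ P, g * y = y * g := by
    intro y hy
    have h1 : g * y * g⁻¹ * y⁻¹ ∈ N := by
      have h2 : y * g⁻¹ * y⁻¹ ∈ N := (inferInstance : N.Normal).conj_mem _ (inv_mem hgN) y
      have h3 : g * y * g⁻¹ * y⁻¹ = g * (y * g⁻¹ * y⁻¹) := by group
      rw [h3]
      exact mul_mem hgN h2
    have h4 : g * y * g⁻¹ * y⁻¹ ∈ P := by
      refine mul_mem ?_ (inv_mem hy)
      rw [← hg P, TI.mem_smul]
      have : g⁻¹ * (g * y * g⁻¹) * g = y := by group
      rw [this]; exact hy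
    obtain ⟨k, hk⟩ := pow_two_of_mem h4
    have h5 : g * y * g⁻¹ * y⁻¹ = 1 := by
      have h6 : (g * y * g⁻¹ * y⁻¹) ^ Nat.card N = 1 := by
        have := pow_card_eq_one' (x := (⟨_, h1⟩ : N))
        exact congrArg Subtype.val this
      have h7 := pow_gcd_eq_one.2 ⟨hk, h6⟩
      have h8 : Nat.gcd (2 ^ k) (Nat.card N) = 1 := Nat.Coprime.pow_left _ (Nat.coprime_two_left.2 hodd)
      rwa [h8, pow_one] at h7
    calc g * y = (g * y * g⁻¹ * y⁻¹) * (y * g) := by group
      _ = y * g := by rw [h5, one_mul]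
  have hgx := hcomm x hxP
  have h1 : (⟨g, mem_C.2 hgx⟩ : Subgroup.centralizer ({x} : Set G)) = 1 := by
    apply (hC x hx).self
    · rw [Subgroup.orderOf_mk]
      have h2 : orderOf g ∣ Nat.card N := by
        rw [← Subgroup.orderOf_mk g hgN]
        exact orderOf_dvd_natCard _
      exact Odd.of_dvd_nat hodd h2
    · intro y ⟨k, hk⟩
      apply Subtype.ext
      apply hcomm
      rw [CK.mem_iff hC hx hxP]
      exact ⟨mem_C.1 y.2, k, congrArg Subtype.val hk⟩
  exact congrArg Subtype.val h1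

/-- the rank one set-up -/
theorem CK.exists_FU (hC : ∀ x : G, orderOf x = 2 → CK (Subgroup.centralizer ({x} : Set G)) q)
    (hex : ∃ x : G, orderOf x = 2) (hS : ∀ P : Sylow 2 G, ¬ (P : Subgroup G).Normal)
    {n : ℕ} (hn : 2 ≤ n) (hq : q = 2 ^ n) :
    ∃ (P : Sylow 2 G) (t : G) (Q C : Subgroup G), FU P t Q C q := by
  have : Fact (Nat.Prime 2) := ⟨Nat.prime_two⟩
  have hΩ := CK.bh hC hex hS
  have hT : TC G (Sylow 2 G) := CK.tc
  have hq4 : 4 ≤ q := by
    rw [hq]
    calc 4 = 2 ^ 2 := rfl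
      _ ≤ 2 ^ n := Nat.pow_le_pow_right (by norm_num) hn
  have h2 := CK.comm2 hC hex (by omega)
  have hfaith := CK.faith hC hex hS
  obtain ⟨a, b, hab⟩ := hΩ.nt
  obtain ⟨t, ht, hta, htb⟩ := hΩ.exists_swap' hab
  have hR := rankOne oddSolv hΩ hT h2 ht (a := a) (by rw [hta]; exact hab.symm)
  have hQe : hT.S a = (a : Subgroup G) := by
    ext x
    rw [TC.mem_S]
    constructor
    · rintro ⟨h1, k, hk⟩
      exact TI.mem_of_two hk h1
    · intro hx
      exact ⟨TI.smul_of_mem hx, pow_two_of_mem hx⟩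
  rw [hQe] at hR
  have h2' : ∃ x y : G, x ≠ 1 ∧ y ≠ 1 ∧ x ≠ y ∧ x * x = 1 ∧ y * y = 1 ∧ x * y = y * x := by
    obtain ⟨s, t, hs, ht, hst, hc⟩ := h2
    exact ⟨s, t, StrEmb.ne_one hs, StrEmb.ne_one ht, hst, StrEmb.mul_self_eq_one hs, StrEmb.mul_self_eq_one ht, hc⟩
  obtain ⟨C, hRS⟩ := RK.exists_RS hR h2' (H38.OddTrans.inverted_cyclic hR h2'
    (Cfsg.Agent.FT.solvable_of_odd hR.odd_card))
  obtain ⟨s, hs, hsa⟩ := hΩ.exists_inv a
  have hsP : s ∈ a := TI.mem_of_two (m := 1) (by rw [pow_one, pow_two]; exact StrEmb.mul_self_eq_one hs) hsa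
  have hcard := CK.card_syl hC (by omega) hq hs hsP
  have hcardE := CK.cardE_syl hC hs hsP
  have hcard' : Nat.card (a : Subgroup G) = q ^ 3 := hcard
  rcases hRS.trichotomy with hel | ⟨-, -, hc⟩ | ⟨hp, hna, -, j, hj, hj1, hjj, hjt⟩
  · exfalso
    have h3 : Nat.card {y : (a : Subgroup G) // y * y = 1} = Nat.card (a : Subgroup G) := by
      apply Nat.card_congr
      exact Equiv.subtypeUnivEquiv fun y => Subtype.ext (hel y.1 y.2)
    rw [hcardE, hcard'] at h3
    nlinarith [Nat.mul_le_mul hq4 hq4]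
  · exfalso
    rw [hcardE, hcard'] at hc
    nlinarith [Nat.mul_le_mul hq4 hq4]
  · have hcomm : ∀ x ∈ C, ∀ y ∈ C, x * y = y * x := by
      intro x hx y hy
      obtain ⟨g, hg⟩ := hRS.cyc.exists_generator
      obtain ⟨m, hm⟩ := Subgroup.mem_zpowers_iff.1 (hg ⟨x, hx⟩)
      obtain ⟨n, hn⟩ := Subgroup.mem_zpowers_iff.1 (hg ⟨y, hy⟩)
      have := (Commute.refl g).zpow_zpow m n
      rw [hm, hn] at this
      exact congrArg Subtype.val this
    have hRK : RK G (Sylow 2 G) a t (a : Subgroup G) C :=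
      ⟨hR, fun x => by rw [← SetLike.mem_coe, hRS.hC], hcomm, hp, two_inv hR h2'⟩
    have hUH : UH a t (a : Subgroup G) C q := ⟨hRK, hna, ⟨j, hj, hj1, hjj, hjt⟩, hcard', hcardE, hfaith⟩
    have hj2 : orderOf j = 2 := order_two hj1 hjj
    have hja := Q_fix hR hj
    have hjinv : j⁻¹ = j := inv_eq_of_mul_eq_one_left hjj
    have hjt' : t * j * t = j⁻¹ * t * j := by rw [hjinv, hjt]
    have hQj : ∀ x ∈ (a : Subgroup G), x * j = j * x := fun x hx => ((CK.mem_iff hC hj2 hj x).1 hx).1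
    have hTA : ∀ d, d ∈ TA a t ↔ d ∈ DD G a t ∧ d * j = j * d := by
      intro d
      rw [mem_TA]
      constructor
      · rintro ⟨h1, h2⟩
        exact ⟨h1, (cD_t_eq hR hja hj1 hjj hj hjt' h1).1 h2⟩
      · rintro ⟨h1, h2⟩
        exact ⟨h1, (cD_t_eq hR hja hj1 hjj hj hjt' h1).2 h2⟩
    have hprod : Nat.card (↥(a : Subgroup G) × ↥(TA a t : Subgroup G)) =
        Nat.card (Subgroup.centralizer ({j} : Set G)) := by
      refine Nat.card_congr (Equiv.ofBijective (fun p : ↥(a : Subgroup G) × ↥(TA a t : Subgroup G) =>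
        (⟨p.1.1 * p.2.1, mem_C.2 ?_⟩ : Subgroup.centralizer ({j} : Set G))) ⟨?_, ?_⟩)
      · have h3 := hQj _ p.1.2
        have h4 := ((hTA _).1 p.2.2).2
        rw [mul_assoc, h4, ← mul_assoc, h3, mul_assoc]
      · rintro ⟨⟨x, hx⟩, ⟨d, hd⟩⟩ ⟨⟨x', hx'⟩, ⟨d', hd'⟩⟩ he
        have he' : x * d = x' * d' := congrArg Subtype.val he
        have h3 : x'⁻¹ * x = d' * d⁻¹ := by
          calc x'⁻¹ * x = x'⁻¹ * (x * d) * d⁻¹ := by group
            _ = d' * d⁻¹ := by rw [he']; group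
        have h4 : x'⁻¹ * x = 1 := by
          apply Q_D hR (mul_mem (inv_mem hx') hx)
          rw [h3]
          exact (mem_DD.1 (mul_mem ((hTA _).1 hd').1 (inv_mem ((hTA _).1 hd).1))).2
        have h5 : x = x' := (inv_mul_eq_one.1 h4).symm
        subst h5
        have h6 : d = d' := mul_left_cancel he'
        subst h6
        rfl
      · rintro ⟨g, hg⟩
        have hg' := mem_C.1 hg
        have hga : g • a = a := comm_fix hR hj1 hjj hja hg'
        obtain ⟨x, hx, d, hd, rfl⟩ := exists_mul hR hga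
        have hdj : d * j = j * d := by
          have h3 := hQj x hx
          apply mul_left_cancel (a := x)
          calc x * (d * j) = x * d * j := by group
            _ = j * (x * d) := hg'
            _ = (j * x) * d := by group
            _ = x * (j * d) := by rw [← h3]; group
        exact ⟨(⟨x, hx⟩, ⟨d, (hTA d).2 ⟨hd, hdj⟩⟩), rfl⟩
    refine ⟨a, t, a, C, hUH, ?_, ?_⟩
    · rw [Nat.card_prod, hcard', (hC j hj2).card] at hprod
      exact Nat.eq_of_mul_eq_mul_left (by positivity) hprod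
    · intro d hd e he hee
      have h3 := (hC j hj2).cen ⟨e, mem_C.2 (hQj e he)⟩ (Subtype.ext hee) ⟨d, mem_C.2 ((hTA d).1 hd).2⟩
      exact congrArg Subtype.val h3

/-- Two groups with the same involution centralizers -/
theorem CK.iso {G' : Type*} [Group G'] [Finite G'] {n : ℕ} (hn : 2 ≤ n) (hq : q = 2 ^ n)
    (hC : ∀ x : G, orderOf x = 2 → CK (Subgroup.centralizer ({x} : Set G)) q)
    (hex : ∃ x : G, orderOf x = 2) (hS : ∀ P : Sylow 2 G, ¬ (P : Subgroup G).Normal)
    (hC' : ∀ x : G', orderOf x = 2 → CK (Subgroup.centralizer ({x} : Set G')) q)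
    (hex' : ∃ x : G', orderOf x = 2) (hS' : ∀ P : Sylow 2 G', ¬ (P : Subgroup G').Normal) :
    Nonempty (G ≃* G') := by
  obtain ⟨P, t, Q, C, h⟩ := CK.exists_FU hC hex hS hn hq
  obtain ⟨P', t', Q', C', h'⟩ := CK.exists_FU hC' hex' hS' hn hq
  exact h.iso h'

end

end Cfsg.Agent.PSU3Id
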