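import Mathlib
import Cfsg.Agent.PSU3Id.FullF
import Cfsg.Agent.PSU3Id.ModelB
import Cfsg.Agent.Uni.Stab

/-!
The centralizers of involutions in `PGU₃(q)`, `q` even.
-/

set_option autoImplicit false

namespace Cfsg.Agent.PSU3Id.MG

open Cfsg Cfsg.Agent.Uni Cfsg.Agent.AutPSU Cfsg.Agent.H38.PSU3 MulAction Cfsg.Agent.PSU3Id
open scoped Pointwise Matrix

variable {F : Type*} [Field F] [Fintype F] {q : ℕ}

/-- a frame -/
structure Fr (q : ℕ) (u v z : Fin 3 → F) : Prop where
  hyp : Hyp q u v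
  zz : hermForm 3 F q z z = 1
  zu : hermForm 3 F q z u = 0
  zv : hermForm 3 F q z v = 0

theorem exists_fr (hF : Fintype.card F = q ^ 2) {u : Fin 3 → F} (hu : Iso q u) : ∃ v z, Fr q u v z := by
  obtain ⟨v, hv⟩ := exists_hyp' hF hu.1 hu.2
  have hfr : Module.finrank F (perp q (Submodule.span F {u, v})) = 1 := hv.finrank_perp hF
  obtain ⟨⟨z, hz⟩, hz0, hzs⟩ := finrank_eq_one_iff'.1 hfr
  obtain ⟨hzu, hzv⟩ := (Hyp.mem_perp_iff hF).1 hz
  have hz0' : z ≠ 0 := fun h => hz0 (Subtype.ext h)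
  have hzz : hermForm 3 F q z z ≠ 0 := by
    intro h0
    have huz : hermForm 3 F q u z = 0 := (hermForm_eq_zero_comm hF).1 hzu
    obtain ⟨c, hc, hce⟩ := par_of_perp_plane hF (nd_top hF) (by rw [finrank_top]; simp) (Submodule.mem_top)
      (Submodule.mem_top) hu ⟨hz0', h0⟩ huz
    rw [hce, hermForm_smul_left, hv.2.2, mul_one] at hzv
    exact hc hzv
  obtain ⟨c, hc, -, hc1⟩ := exists_unit_of_ne_zero hF ⊤ (Submodule.mem_top (x := z)) hzz
  refine ⟨v, c • z, hv, hc1, ?_, ?_⟩
  · rw [hermForm_smul_left, hzu, mul_zero]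
  · rw [hermForm_smul_left, hzv, mul_zero]

namespace Fr

variable {u v z : Fin 3 → F} (h : Fr q u v z)
include h

theorem uz (hF : Fintype.card F = q ^ 2) : hermForm 3 F q u z = 0 := (hermForm_eq_zero_comm hF).1 h.zu
theorem vz (hF : Fintype.card F = q ^ 2) : hermForm 3 F q v z = 0 := (hermForm_eq_zero_comm hF).1 h.zv
theorem vu (hF : Fintype.card F = q ^ 2) : hermForm 3 F q v u = 1 := (h.hyp.symm hF).2.2

theorem expand (hF : Fintype.card F = q ^ 2) (x : Fin 3 → F) :
    x = (hermForm 3 F q x v) • u + (hermForm 3 F q x u) • v + (hermForm 3 F q x z) • z := by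
  obtain ⟨x', h1, h2, h3⟩ := decomp hF h.hyp x
  have hfr : Module.finrank F (perp q (Submodule.span F {u, v})) = 1 := h.hyp.finrank_perp hF
  have hz0 : z ≠ 0 := by
    rintro rfl
    have := h.zz
    rw [hermForm_zero_left] at this
    exact zero_ne_one this
  obtain ⟨d, hd⟩ := exists_smul_eq_of_finrank_eq_one hfr
    (x := (⟨z, (Hyp.mem_perp_iff hF).2 ⟨h.zu, h.zv⟩⟩ : perp q (Submodule.span F {u, v})))
    (fun e => hz0 (congrArg Subtype.val e)) ⟨x', (Hyp.mem_perp_iff hF).2 ⟨h1, h2⟩⟩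
  have hd' : d • z = x' := congrArg Subtype.val hd
  have h4 : hermForm 3 F q x z = d := by
    rw [h3, hermForm_add_left, hermForm_add_left, hermForm_smul_left, hermForm_smul_left, h.uz hF, h.vz hF,
      ← hd', hermForm_smul_left, h.zz]
    ring
  rw [h4, hd']
  exact h3

theorem ext (hF : Fintype.card F = q ^ 2) {g k : GU 3 F q} (h1 : gact g u = gact k u) (h2 : gact g v = gact k v)
    (h3 : gact g z = gact k z) : g = k := by
  apply gact_ext
  intro x
  rw [h.expand hF x]
  simp only [gact_add, gact_smul, h1, h2, h3]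

end Fr

/-- the stabiliser of a vector -/
def KU (q : ℕ) (u : Fin 3 → F) : Subgroup (GU 3 F q) where
  carrier := {g | gact g u = u}
  one_mem' := gact_one u
  mul_mem' := by
    intro g k hg hk
    show gact (g * k) u = u
    have hg' : gact g u = u := hg
    have hk' : gact k u = u := hk
    rw [gact_mul, hk', hg']
  inv_mem' := by
    intro g hg
    have hg' : gact g u = u := hg
    show gact g⁻¹ u = u
    conv_lhs => rw [← hg']
    rw [gact_inv_gact]

theorem mem_KU {u : Fin 3 → F} {g : GU 3 F q} : g ∈ KU q u ↔ gact g u = u := Iff.rfl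

section

variable {u v z : Fin 3 → F} (h : Fr q u v z) (hF : Fintype.card F = q ^ 2)
include h hF

theorem KU_z {g : GU 3 F q} (hg : g ∈ KU q u) :
    gact g z = (hermForm 3 F q (gact g z) v) • u + (hermForm 3 F q (gact g z) z) • z := by
  have h1 : hermForm 3 F q (gact g z) u = 0 := by
    have h2 := gact_form g z u
    rwa [mem_KU.1 hg, h.zu] at h2
  have h2 := h.expand hF (gact g z)
  rw [h1, zero_smul, add_zero] at h2
  exact h2

theorem KU_v {g : GU 3 F q} (hg : g ∈ KU q u) :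
    gact g v = (hermForm 3 F q (gact g v) v) • u + v + (hermForm 3 F q (gact g v) z) • z := by
  have h1 : hermForm 3 F q (gact g v) u = 1 := by
    have h2 := gact_form g v u
    rwa [mem_KU.1 hg, h.vu hF] at h2
  have h2 := h.expand hF (gact g v)
  rw [h1, one_smul] at h2
  exact h2

theorem bet_mul {g k : GU 3 F q} (hg : g ∈ KU q u) (hk : k ∈ KU q u) :
    hermForm 3 F q (gact (g * k) z) z = hermForm 3 F q (gact g z) z * hermForm 3 F q (gact k z) z := by
  rw [gact_mul, KU_z h hF hk, gact_add, gact_smul, gact_smul, mem_KU.1 hg, hermForm_add_left, hermForm_smul_left,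
    hermForm_smul_left, h.uz hF, hermForm_add_left, hermForm_smul_left, hermForm_smul_left, h.uz hF, h.zz]
  ring

theorem bet_pow {g : GU 3 F q} (hg : g ∈ KU q u) (n : ℕ) :
    hermForm 3 F q (gact (g ^ n) z) z = hermForm 3 F q (gact g z) z ^ n := by
  induction n with
  | zero => rw [pow_zero, gact_one, h.zz, pow_zero]
  | succ n ih => rw [pow_succ, bet_mul h hF (pow_mem hg n) hg, ih, pow_succ]

variable [CharP F 2]

theorem bet_one_of_two {g : GU 3 F q} (hg : g ∈ KU q u) {k : ℕ} (hk : g ^ 2 ^ k = 1) :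
    hermForm 3 F q (gact g z) z = 1 := by
  have h1 := bet_pow h hF hg (2 ^ k)
  rw [hk, gact_one, h.zz] at h1
  have h2 : (hermForm 3 F q (gact g z) z - 1) ^ 2 ^ k = 0 := by
    rw [sub_pow_char_pow, ← h1, one_pow, sub_self]
  exact sub_eq_zero.1 (pow_eq_zero_iff (by positivity) |>.1 h2)

theorem sq_act {g : GU 3 F q} (hg : g ∈ KU q u) (hb : hermForm 3 F q (gact g z) z = 1) :
    gact (g * g) z = z ∧ gact (g * g) v = (hermForm 3 F q (gact g v) z * hermForm 3 F q (gact g z) v) • u + v := by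
  have h2 : (2 : F) = 0 := CharTwo.two_eq_zero
  have hz := KU_z h hF hg
  rw [hb, one_smul] at hz
  have hv := KU_v h hF hg
  obtain ⟨γ, hγ⟩ : ∃ γ, γ = hermForm 3 F q (gact g z) v := ⟨_, rfl⟩
  obtain ⟨δ, hδ⟩ : ∃ δ, δ = hermForm 3 F q (gact g v) z := ⟨_, rfl⟩
  obtain ⟨ε, hε⟩ : ∃ ε, ε = hermForm 3 F q (gact g v) v := ⟨_, rfl⟩
  rw [← hγ] at hz ⊢
  rw [← hε, ← hδ] at hv
  rw [← hδ]
  constructor
  · rw [gact_mul, hz, gact_add, gact_smul, mem_KU.1 hg, hz]
    have e : γ • u + (γ • u + z) = (2 * γ) • u + z := by module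
    rw [e, h2, zero_mul, zero_smul, zero_add]
  · rw [gact_mul, hv, gact_add, gact_add, gact_smul, gact_smul, mem_KU.1 hg, hz, hv]
    have e : ε • u + (ε • u + v + δ • z) + δ • (γ • u + z) = (2 * ε) • u + (2 * δ) • z + ((δ * γ) • u + v) := by
      module
    rw [e, h2, zero_mul, zero_mul, zero_smul, zero_smul, zero_add, zero_add]

theorem four {g : GU 3 F q} (hg : g ∈ KU q u) (hb : hermForm 3 F q (gact g z) z = 1) : g ^ 2 ^ 2 = 1 := by
  have h2 : (2 : F) = 0 := CharTwo.two_eq_zero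
  obtain ⟨h1, h3⟩ := sq_act h hF hg hb
  have hgg : g * g ∈ KU q u := mul_mem hg hg
  have e : g ^ 2 ^ 2 = (g * g) * (g * g) := by
    have : (2 : ℕ) ^ 2 = 2 + 2 := rfl
    rw [this, pow_add, pow_two]
  rw [e]
  apply h.ext hF
  · rw [gact_mul, mem_KU.1 hgg, mem_KU.1 hgg, gact_one]
  · rw [gact_mul, h3, gact_add, gact_smul, mem_KU.1 hgg, h3, gact_one]
    have e : ∀ c : F, c • u + (c • u + v) = (2 * c) • u + v := by intro c; module
    rw [e, h2, zero_mul, zero_smul, zero_add]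
  · rw [gact_mul, h1, h1, gact_one]

/-- involutions of the stabiliser are transvections -/
theorem invol {g : GU 3 F q} (hg : g ∈ KU q u) (hgg : g * g = 1) (x : Fin 3 → F) :
    gact g x = x + (hermForm 3 F q (gact g v) v * hermForm 3 F q x u) • u := by
  have hb : hermForm 3 F q (gact g z) z = 1 := bet_one_of_two h hF hg (k := 1) (by rw [pow_one, pow_two, hgg])
  obtain ⟨-, h3⟩ := sq_act h hF hg hb
  have hz := KU_z h hF hg
  rw [hb, one_smul] at hz
  have hv := KU_v h hF hg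
  have hu := mem_KU.1 hg
  obtain ⟨γ, hγ⟩ : ∃ γ, γ = hermForm 3 F q (gact g z) v := ⟨_, rfl⟩
  obtain ⟨δ, hδ⟩ : ∃ δ, δ = hermForm 3 F q (gact g v) z := ⟨_, rfl⟩
  obtain ⟨ε, hε⟩ : ∃ ε, ε = hermForm 3 F q (gact g v) v := ⟨_, rfl⟩
  rw [← hγ] at hz
  rw [← hε, ← hδ] at hv
  rw [← hγ, ← hδ, hgg, gact_one] at h3
  rw [← hε]
  have h4 : δ * γ = 0 := by
    have h5 : (δ * γ) • u = 0 := by
      have : (δ * γ) • u + v = 0 + v := by rw [← h3, zero_add]
      exact add_right_cancel this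
    exact (smul_eq_zero.1 h5).resolve_right h.hyp.left_ne
  have h5 : γ + δ ^ q = 0 := by
    have h6 := gact_form g z v
    rw [h.zv, hz, hv] at h6
    simp only [hermForm_add_left, hermForm_smul_left, hermForm_add_right hF, hermForm_smul_right, h.hyp.1,
      h.hyp.2.2, h.uz hF, h.zu, h.zv, h.zz] at h6
    linear_combination h6
  have h6 : δ = 0 ∧ γ = 0 := by
    rcases mul_eq_zero.1 h4 with h7 | h7
    · refine ⟨h7, ?_⟩
      rw [h7, zero_pow_q hF, add_zero] at h5
      exact h5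
    · refine ⟨?_, h7⟩
      rw [h7, zero_add] at h5
      exact (pow_q_eq_zero hF).1 h5
  rw [h6.2, zero_smul, zero_add] at hz
  rw [h6.1, zero_smul, add_zero] at hv
  conv_lhs => rw [h.expand hF x]
  conv_rhs => rw [h.expand hF x]
  simp only [gact_add, gact_smul, hu, hz, hv]
  have h8 : hermForm 3 F q (hermForm 3 F q x v • u + hermForm 3 F q x u • v + hermForm 3 F q x z • z) u =
      hermForm 3 F q x u := by rw [← h.expand hF x]
  rw [h8]
  module

/-- the parameter of an involution -/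
theorem invol_param {g : GU 3 F q} (hg : g ∈ KU q u) (hgg : g * g = 1) :
    hermForm 3 F q (gact g v) v ^ q = hermForm 3 F q (gact g v) v := by
  have h2 : (2 : F) = 0 := CharTwo.two_eq_zero
  have h1 := invol h hF hg hgg v
  rw [h.vu hF, mul_one] at h1
  obtain ⟨ε, hε⟩ : ∃ ε, ε = hermForm 3 F q (gact g v) v := ⟨_, rfl⟩
  rw [← hε] at h1 ⊢
  have h3 := gact_form g v v
  rw [h1, h.hyp.2.1] at h3
  simp only [hermForm_add_left, hermForm_smul_left, hermForm_add_right hF, hermForm_smul_right, h.hyp.1,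
    h.hyp.2.2, h.hyp.2.1, h.vu hF] at h3
  linear_combination h3 - ε * h2

theorem ck_cen {g y : GU 3 F q} (hg : g ∈ KU q u) (hy : y ∈ KU q u) (hyy : y * y = 1) : g * y = y * g := by
  have h1 := invol h hF hy hyy
  apply gact_ext
  intro x
  have h3 : hermForm 3 F q (gact g x) u = hermForm 3 F q x u := by
    have := gact_form g x u
    rwa [mem_KU.1 hg] at this
  have e1 := h1 x
  have e2 := h1 (gact g x)
  rw [h3] at e2
  rw [gact_mul, gact_mul, e1, e2, gact_add, gact_smul, mem_KU.1 hg]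

theorem ck_cardE : Nat.card {y : KU q u // y * y = 1} = q := by
  have h2 : (2 : F) = 0 := CharTwo.two_eq_zero
  refine Eq.trans ?_ (card_fixed hF)
  refine Nat.card_congr (Equiv.ofBijective (fun y : {y : KU q u // y * y = 1} =>
    (⟨hermForm 3 F q (gact (y.1 : GU 3 F q) v) v, invol_param h hF y.1.2 (congrArg Subtype.val y.2)⟩ :
      {c : F // c ^ q = c})) ⟨?_, ?_⟩)
  · intro y y' hyy
    have h1 : hermForm 3 F q (gact (y.1 : GU 3 F q) v) v = hermForm 3 F q (gact (y'.1 : GU 3 F q) v) v :=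
      congrArg Subtype.val hyy
    apply Subtype.ext
    apply Subtype.ext
    apply gact_ext
    intro x
    rw [invol h hF y.1.2 (congrArg Subtype.val y.2), invol h hF y'.1.2 (congrArg Subtype.val y'.2), h1]
  · rintro ⟨c, hc⟩
    obtain ⟨g, -, hg⟩ := exists_transv hF (u := u) (a := c) h.hyp.1 (by rw [hc]; linear_combination c * h2)
    have hgu : suToGU hF 3 g ∈ KU q u := by
      rw [mem_KU, gact_suToGU, hg, h.hyp.1, mul_zero, zero_smul, add_zero]
    refine ⟨⟨⟨suToGU hF 3 g, hgu⟩, ?_⟩, ?_⟩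
    · apply Subtype.ext
      show suToGU hF 3 g * suToGU hF 3 g = 1
      apply gact_ext
      intro x
      rw [gact_mul, gact_suToGU, gact_suToGU, hg, hg, gact_one, hermForm_add_left, hermForm_smul_left, h.hyp.1]
      have e : ∀ a : F, x + a • u + (a + c * 0) • u = x + (2 * a) • u := by intro a; module
      have e2 : c * (hermForm 3 F q x u + c * hermForm 3 F q x u * 0) = c * hermForm 3 F q x u + c * 0 := by ring
      rw [e2, e, h2, zero_mul, zero_smul, add_zero]
    · apply Subtype.ext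
      show hermForm 3 F q (gact (suToGU hF 3 g) v) v = c
      rw [gact_suToGU, hg, hermForm_add_left, hermForm_smul_left, h.hyp.2.1, h.hyp.2.2, h.vu hF]
      ring

theorem ck_two {g k : GU 3 F q} (hg : g ∈ KU q u) (hk : k ∈ KU q u) (hg2 : ∃ n : ℕ, g ^ 2 ^ n = 1)
    (hk2 : ∃ n : ℕ, k ^ 2 ^ n = 1) : ∃ n : ℕ, (g * k) ^ 2 ^ n = 1 := by
  obtain ⟨i, hi⟩ := hg2
  obtain ⟨j, hj⟩ := hk2
  refine ⟨2, four h hF (mul_mem hg hk) ?_⟩
  rw [bet_mul h hF hg hk, bet_one_of_two h hF hg hi, bet_one_of_two h hF hk hj, one_mul]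

theorem ck_self {g : GU 3 F q} (hg : g ∈ KU q u) (hodd : Odd (orderOf g))
    (hc : ∀ y ∈ KU q u, (∃ n : ℕ, y ^ 2 ^ n = 1) → g * y = y * g) : g = 1 := by
  obtain ⟨s, p, hs, hp⟩ := exists_eich' hF u z h.hyp.1 (h.uz hF)
  have hpu : suToGU hF 3 p ∈ KU q u := by
    rw [mem_KU, gact_suToGU, hp, h.hyp.1, h.uz hF]
    simp
  have hpz : gact (suToGU hF 3 p) z = z - u := by
    rw [gact_suToGU, hp, h.zu, h.zz]
    simp
  have hb : hermForm 3 F q (gact (suToGU hF 3 p) z) z = 1 := by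
    rw [hpz, hermForm_sub_left, h.zz, h.uz hF, sub_zero]
  have h1 := hc _ hpu ⟨2, four h hF hpu hb⟩
  have h2 := congrArg (fun k => gact k z) h1
  simp only [gact_mul] at h2
  rw [hpz, gact_sub, mem_KU.1 hg, KU_z h hF hg, gact_add, gact_smul, gact_smul, hpz, mem_KU.1 hpu] at h2
  obtain ⟨β, hβ⟩ : ∃ β, β = hermForm 3 F q (gact g z) z := ⟨_, rfl⟩
  rw [← hβ] at h2
  have h3 : (β - 1) • u = 0 := by
    have e := sub_eq_zero.2 h2
    have e2 : hermForm 3 F q (gact g z) v • u + β • z - u - (hermForm 3 F q (gact g z) v • u + β • (z - u)) =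
        (β - 1) • u := by module
    rwa [e2] at e
  have h4 : β = 1 := sub_eq_zero.1 ((smul_eq_zero.1 h3).resolve_right h.hyp.left_ne)
  have h5 := four h hF hg (by rw [← hβ, h4])
  have h6 : orderOf g ∣ 2 ^ 2 := orderOf_dvd_of_pow_eq_one (by
    rw [show (2 ^ 2 : ℕ) = 2 ^ 2 from rfl]; exact h5)
  have h7 : Nat.Coprime (orderOf g) (2 ^ 2) := (Nat.coprime_two_right.2 hodd).pow_right 2
  exact orderOf_eq_one_iff.1 (Nat.Coprime.eq_one_of_dvd h7 h6)

end

section

variable (hF : Fintype.card F = q ^ 2)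
include hF

/-- the order of the stabiliser -/
theorem card_KU {u : Fin 3 → F} (hu : Iso q u) : Nat.card (KU q u) = q ^ 3 * (q + 1) := by
  classical
  let inst : MulAction (GU 3 F q) (Fin 3 → F) :=
    { smul := gact
      one_smul := gact_one
      mul_smul := gact_mul }
  have h1 : Nat.card (orbit (GU 3 F q) u) * Nat.card (stabilizer (GU 3 F q) u) = Nat.card (GU 3 F q) := by
    rw [← Nat.card_prod]
    exact Nat.card_congr (orbitProdStabilizerEquivGroup (GU 3 F q) u)
  have h2 : stabilizer (GU 3 F q) u = KU q u := rfl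
  rw [h2] at h1
  have h3 : Nat.card (orbit (GU 3 F q) u) = cnt 3 F q 0 - 1 := by
    have e1 : orbit (GU 3 F q) u = {x : Fin 3 → F | hermForm 3 F q x x = 0} \ {0} := by
      ext x
      constructor
      · rintro ⟨g, rfl⟩
        refine ⟨?_, ?_⟩
        · show hermForm 3 F q (gact g u) (gact g u) = 0
          rw [gact_form, hu.2]
        · intro hx
          have hx' : gact g u = 0 := hx
          apply hu.1
          rw [← gact_inv_gact g u, hx', gact_zero]
      · rintro ⟨hx, hx0⟩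
        obtain ⟨g, hg⟩ := exists_GU_of_family hF (x := fun _ : Fin 1 => u) (y := fun _ : Fin 1 => x)
          (linearIndependent_unique_iff.2 hu.1) (linearIndependent_unique_iff.2 hx0) (fun _ _ => by
            rw [hu.2]; exact hx.symm)
        exact ⟨g, hg 0⟩
    rw [e1, Nat.card_coe_set_eq, Set.ncard_sdiff_singleton_of_mem (by
      show hermForm 3 F q 0 0 = 0
      rw [hermForm_zero_left])]
    rfl
  have h4 := cnt_zero_sub_one hF 2
  have h5 := card_GU hF 3
  have h6 : Nat.card (GU 3 F q) = q ^ 3 * ((q + 1) * (q ^ 2 - 1) * (q ^ 3 + 1)) := by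
    rw [h5]
    simp [Finset.prod_range_succ, Nat.even_iff]
  have h7 : ((cnt 3 F q 0 - 1 : ℕ) : ℤ) = ((q : ℤ) ^ 3 + 1) * ((q : ℤ) ^ 2 - 1) := by
    rw [h4]; ring
  have hq := two_le_q hF
  have h8 : ((q ^ 2 - 1 : ℕ) : ℤ) = (q : ℤ) ^ 2 - 1 := by
    rw [Nat.cast_sub (Nat.one_le_pow _ _ (by omega))]; push_cast; ring
  rw [h3, h6] at h1
  have h9 : (((q : ℤ) ^ 3 + 1) * ((q : ℤ) ^ 2 - 1)) * (Nat.card (KU q u) : ℤ) =
      (((q : ℤ) ^ 3 + 1) * ((q : ℤ) ^ 2 - 1)) * ((q : ℤ) ^ 3 * (q + 1)) := by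
    have h12 : ((cnt 3 F q 0 - 1 : ℕ) : ℤ) * (Nat.card (KU q u) : ℤ) =
        ((q ^ 3 * ((q + 1) * (q ^ 2 - 1) * (q ^ 3 + 1)) : ℕ) : ℤ) := by
      rw [← Nat.cast_mul, h1]
    rw [h7] at h12
    rw [h12]
    push_cast
    rw [h8]
    ring
  have h10 : (((q : ℤ) ^ 3 + 1) * ((q : ℤ) ^ 2 - 1)) ≠ 0 := by
    have : (2 : ℤ) ≤ q := by exact_mod_cast hq
    have h11 : (0 : ℤ) < (q : ℤ) ^ 2 - 1 := by nlinarith
    positivity
  have h11 := mul_left_cancel₀ h10 h9
  exact_mod_cast h11

theorem ck_KU [CharP F 2] {u : Fin 3 → F} (hu : Iso q u) : CK (KU q u) q := by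
  obtain ⟨v, z, h⟩ := exists_fr hF hu
  refine ⟨card_KU hF hu, ?_, ?_, ck_cardE h hF, ?_⟩
  · rintro g k ⟨i, hi⟩ ⟨j, hj⟩
    obtain ⟨n, hn⟩ := ck_two h hF g.2 k.2 ⟨i, congrArg Subtype.val hi⟩ ⟨j, congrArg Subtype.val hj⟩
    exact ⟨n, Subtype.ext hn⟩
  · intro y hy g
    exact Subtype.ext (ck_cen h hF g.2 y.2 (congrArg Subtype.val hy))
  · intro g hg hc
    apply Subtype.ext
    apply ck_self h hF g.2 (by rwa [Subgroup.orderOf_coe])
    intro y hy ⟨n, hn⟩
    exact congrArg Subtype.val (hc ⟨y, hy⟩ ⟨n, Subtype.ext hn⟩)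

/-! scalars -/

theorem exists_scalar {c : F} (hc : c ^ (q + 1) = 1) :
    ∃ s ∈ Subgroup.center (GU 3 F q), ∀ x, gact s x = c • x := by
  let s : GU 3 F q := mkGU hF (Matrix.diagonal (fun _ => c)) ((pres_scalar_iff (by omega) _).2 hc)
  have hs : ∀ x, gact s x = c • x := by
    intro x
    show Matrix.diagonal (fun _ => c) *ᵥ x = c • x
    ext i
    rw [Matrix.mulVec_diagonal, Pi.smul_apply, smul_eq_mul]
  refine ⟨s, ?_, hs⟩
  rw [Subgroup.mem_center_iff]
  intro k
  apply gact_ext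
  intro x
  rw [gact_mul, gact_mul, hs, hs, gact_smul]

theorem center_gact {s : GU 3 F q} (hs : s ∈ Subgroup.center (GU 3 F q)) :
    ∃ c : F, c ^ (q + 1) = 1 ∧ ∀ x, gact s x = c • x := by
  obtain ⟨c, hc⟩ := eq_scalar_of_commute hF (by omega) ((s : GL (Fin 3) F) : Matrix (Fin 3) (Fin 3) F) (by
    intro g
    have h1 := Subgroup.mem_center_iff.1 hs (suToGU hF 3 g)
    have h2 := congrArg (fun k : GU 3 F q => ((k : GL (Fin 3) F) : Matrix (Fin 3) (Fin 3) F)) h1
    exact h2)
  refine ⟨c, ?_, ?_⟩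
  · rw [← pres_scalar_iff (n := 3) (by omega), ← hc]
    exact s.2
  · intro x
    show ((s : GL (Fin 3) F) : Matrix (Fin 3) (Fin 3) F) *ᵥ x = c • x
    rw [hc]
    ext i
    rw [Matrix.mulVec_diagonal, Pi.smul_apply, smul_eq_mul]

/-- involutions of `GU` -/
theorem exists_transv_of_sq [CharP F 2] {g : GU 3 F q} (hgg : g * g = 1) (hg1 : g ≠ 1) :
    ∃ (u : Fin 3 → F) (c : F), Iso q u ∧ c ≠ 0 ∧ ∀ x, gact g x = x + (c * hermForm 3 F q x u) • u := by
  have h2 : (2 : F) = 0 := CharTwo.two_eq_zero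
  have hfix : ∀ x, gact g (gact g x - x) = gact g x - x := by
    intro x
    rw [gact_sub, ← gact_mul, hgg, gact_one]
    have e : x - gact g x = (gact g x - x) + (2 : F) • (x - gact g x) := by module
    rw [h2, zero_smul, add_zero] at e
    exact e
  have hperp : ∀ x a, gact g a = a → hermForm 3 F q (gact g x - x) a = 0 := by
    intro x a ha
    have h3 := gact_form g x a
    rw [ha] at h3
    rw [hermForm_sub_left, h3, sub_self]
  obtain ⟨x₀, hx₀⟩ : ∃ x, gact g x ≠ x := by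
    by_contra hcon
    push Not at hcon
    exact hg1 (gact_ext fun x => by rw [hcon, gact_one])
  obtain ⟨u, hu⟩ : ∃ u, u = gact g x₀ - x₀ := ⟨_, rfl⟩
  have hu0 : u ≠ 0 := by rw [hu]; exact sub_ne_zero.2 hx₀
  have hgu : gact g u = u := by rw [hu]; exact hfix x₀
  have huu : Iso q u := ⟨hu0, by
    have := hperp x₀ u hgu
    rwa [← hu] at this⟩
  have hpar : ∀ x, ∃ f : F, gact g x - x = f • u := by
    intro x
    by_cases h0 : gact g x - x = 0
    · exact ⟨0, by rw [h0, zero_smul]⟩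
    · have h3 : hermForm 3 F q (gact g x - x) (gact g x - x) = 0 := hperp x _ (hfix x)
      have h4 : hermForm 3 F q u (gact g x - x) = 0 := (hermForm_eq_zero_comm hF).1 (hperp x u hgu)
      obtain ⟨c, -, hc⟩ := par_of_perp_plane hF (nd_top hF) (by rw [finrank_top]; simp) (Submodule.mem_top)
        (Submodule.mem_top) huu ⟨h0, h3⟩ h4
      exact ⟨c, hc⟩
  obtain ⟨v, z, h⟩ := exists_fr hF huu
  obtain ⟨c, hc⟩ := hpar v
  obtain ⟨d, hd⟩ := hpar z
  have hcv : gact g v = v + c • u := by rw [← hc]; abel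
  have hdz : gact g z = z + d • u := by rw [← hd]; abel
  have hd0 : d = 0 := by
    have h3 := gact_form g z v
    rw [hcv, hdz, h.zv] at h3
    simp only [hermForm_add_left, hermForm_smul_left, hermForm_add_right hF, hermForm_smul_right, h.hyp.1,
      h.hyp.2.2, h.zu, h.zv] at h3
    linear_combination h3
  rw [hd0, zero_smul, add_zero] at hdz
  have hall : ∀ x, gact g x = x + (c * hermForm 3 F q x u) • u := by
    intro x
    conv_lhs => rw [h.expand hF x]
    simp only [gact_add, gact_smul, hgu, hcv, hdz]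
    have e := h.expand hF x
    conv_rhs => rw [add_comm]
    have e2 : (c * hermForm 3 F q x u) • u + x = (c * hermForm 3 F q x u) • u +
      (hermForm 3 F q x v • u + hermForm 3 F q x u • v + hermForm 3 F q x z • z) := by rw [← e]
    rw [e2]
    module
  refine ⟨u, c, huu, ?_, hall⟩
  rintro rfl
  apply hg1
  apply gact_ext
  intro x
  rw [hall, gact_one, zero_mul, zero_smul, add_zero]

omit hF in
theorem pow_scalar {s : GU 3 F q} {c : F} (hs : ∀ x, gact s x = c • x) (n : ℕ) (x : Fin 3 → F) :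
    gact (s ^ n) x = c ^ n • x := by
  induction n with
  | zero => rw [pow_zero, gact_one, pow_zero, one_smul]
  | succ n ih => rw [pow_succ', gact_mul, ih, hs, smul_smul, ← pow_succ']

theorem lift_invol (hq : Even q) {y : GU 3 F q ⧸ Subgroup.center (GU 3 F q)} (hy : orderOf y = 2) :
    ∃ g : GU 3 F q, g * g = 1 ∧ g ≠ 1 ∧ (QuotientGroup.mk g : GU 3 F q ⧸ Subgroup.center (GU 3 F q)) = y := by
  obtain ⟨g, rfl⟩ := QuotientGroup.mk_surjective y
  have hyy : (QuotientGroup.mk g : GU 3 F q ⧸ Subgroup.center (GU 3 F q)) ^ 2 = 1 := by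
    rw [← hy]; exact pow_orderOf_eq_one _
  have hz : g * g ∈ Subgroup.center (GU 3 F q) := by
    rw [← QuotientGroup.eq_one_iff, ← pow_two]
    exact hyy
  obtain ⟨c, hc, hcs⟩ := center_gact hF hz
  obtain ⟨k, hk⟩ := hq
  have hmk : (QuotientGroup.mk (g ^ (q + 1)) : GU 3 F q ⧸ Subgroup.center (GU 3 F q)) = QuotientGroup.mk g := by
    have h1 : (QuotientGroup.mk (g ^ (q + 1)) : GU 3 F q ⧸ Subgroup.center (GU 3 F q)) =
      (QuotientGroup.mk g : GU 3 F q ⧸ Subgroup.center (GU 3 F q)) ^ (q + 1) := rfl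
    have h9 : ∀ (y : GU 3 F q ⧸ Subgroup.center (GU 3 F q)) (n m : ℕ), y ^ 2 = 1 → n = m + m → y ^ (n + 1) = y := by
      intro y n m hy hn
      rw [hn, pow_succ, ← two_mul, pow_mul, hy, one_pow, one_mul]
    rw [h1, h9 _ q k hyy hk]
  refine ⟨g ^ (q + 1), ?_, ?_, hmk⟩
  · have h1 : g ^ (q + 1) * g ^ (q + 1) = (g * g) ^ (q + 1) := by
      rw [← pow_two, ← pow_two, ← pow_mul, ← pow_mul, mul_comm]
    rw [h1]
    apply gact_ext
    intro x
    rw [pow_scalar hcs, hc, one_smul, gact_one]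
  · intro h1
    rw [h1] at hmk
    rw [← hmk] at hy
    have : (QuotientGroup.mk (1 : GU 3 F q) : GU 3 F q ⧸ Subgroup.center (GU 3 F q)) = 1 := rfl
    rw [this, orderOf_one] at hy
    omega

variable [CharP F 2]

theorem ck_cent (hq : Even q) {y : GU 3 F q ⧸ Subgroup.center (GU 3 F q)} (hy : orderOf y = 2) :
    CK (Subgroup.centralizer ({y} : Set (GU 3 F q ⧸ Subgroup.center (GU 3 F q)))) q := by
  have h2 : (2 : F) = 0 := CharTwo.two_eq_zero
  obtain ⟨g, hgg, hg1, rfl⟩ := lift_invol hF hq hy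
  obtain ⟨u, c, hu, hc, hg⟩ := exists_transv_of_sq hF hgg hg1
  obtain ⟨v, z, h⟩ := exists_fr hF hu
  have hcomm : ∀ k : GU 3 F q, k ∈ KU q u → k * g = g * k := by
    intro k hk
    apply gact_ext
    intro x
    have h3 : hermForm 3 F q (gact k x) u = hermForm 3 F q x u := by
      have := gact_form k x u
      rwa [mem_KU.1 hk] at this
    rw [gact_mul, gact_mul, hg, hg, gact_add, gact_smul, mem_KU.1 hk, h3]
  let φ : KU q u →* Subgroup.centralizer ({(QuotientGroup.mk g : GU 3 F q ⧸ Subgroup.center (GU 3 F q))} :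
      Set (GU 3 F q ⧸ Subgroup.center (GU 3 F q))) :=
    { toFun := fun k => ⟨QuotientGroup.mk k.1, mem_C.2 (by
        rw [← QuotientGroup.mk_mul, ← QuotientGroup.mk_mul, hcomm k.1 k.2])⟩
      map_one' := rfl
      map_mul' := fun _ _ => rfl }
  refine (ck_KU hF hu).congr (MulEquiv.ofBijective φ ⟨?_, ?_⟩)
  · rw [injective_iff_map_eq_one]
    intro k hk
    have h3 : (QuotientGroup.mk k.1 : GU 3 F q ⧸ Subgroup.center (GU 3 F q)) = 1 := congrArg Subtype.val hk
    obtain ⟨e, -, he⟩ := center_gact hF ((QuotientGroup.eq_one_iff _).1 h3)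
    have h4 := he u
    rw [mem_KU.1 k.2] at h4
    have h5 : (e - 1) • u = 0 := by rw [sub_smul, ← h4, one_smul, sub_self]
    have h6 : e = 1 := sub_eq_zero.1 ((smul_eq_zero.1 h5).resolve_right hu.1)
    apply Subtype.ext
    apply gact_ext
    intro x
    rw [he, h6, one_smul]
    exact (gact_one x).symm
  · rintro ⟨m, hm⟩
    obtain ⟨k, rfl⟩ := QuotientGroup.mk_surjective m
    have hm' := mem_C.1 hm
    have h3 : (g * k)⁻¹ * (k * g) ∈ Subgroup.center (GU 3 F q) := by
      rw [← QuotientGroup.eq, QuotientGroup.mk_mul, QuotientGroup.mk_mul]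
      exact hm'.symm
    obtain ⟨s, hs⟩ : ∃ s, s = (g * k)⁻¹ * (k * g) := ⟨_, rfl⟩
    rw [← hs] at h3
    have h4 : s * s = 1 := by
      have h5 : k * g * k⁻¹ = g * s := by
        have h6 : k * g = (g * k) * s := by rw [hs]; group
        have h7 : k * s = s * k := Subgroup.mem_center_iff.1 h3 k
        rw [h6, mul_assoc g k s, h7]; group
      have h8 : (g * s) * (g * s) = 1 := by
        rw [← h5]
        calc k * g * k⁻¹ * (k * g * k⁻¹) = k * (g * g) * k⁻¹ := by group
          _ = 1 := by rw [hgg]; group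
      have h9 : g * s = s * g := Subgroup.mem_center_iff.1 h3 g
      calc s * s = (g * g) * (s * s) := by rw [hgg, one_mul]
        _ = g * (g * s) * s := by group
        _ = g * (s * g) * s := by rw [h9]
        _ = (g * s) * (g * s) := by group
        _ = 1 := h8
    obtain ⟨e, -, he⟩ := center_gact hF h3
    have h5 : e * e = 1 := by
      have h6 : gact (s * s) u = (e * e) • u := by rw [gact_mul, he, he, smul_smul]
      rw [h4, gact_one] at h6
      have h7 : (e * e - 1) • u = 0 := by rw [sub_smul, ← h6, one_smul, sub_self]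
      exact sub_eq_zero.1 ((smul_eq_zero.1 h7).resolve_right hu.1)
    have h6 : e = 1 := by
      have h7 : (e - 1) * (e - 1) = 0 := by linear_combination h5 - (e - 1) * h2
      exact sub_eq_zero.1 (mul_self_eq_zero.1 h7)
    have h7 : k * g = g * k := by
      have h8 : s = 1 := by
        apply gact_ext
        intro x
        rw [he, h6, one_smul, gact_one]
      rw [h8] at hs
      exact (inv_mul_eq_one.1 hs.symm).symm
    have h8 : c • gact k u = (c * hermForm 3 F q (gact k v) u) • u := by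
      have h9 := congrArg (fun k : GU 3 F q => gact k v) h7
      simp only [gact_mul] at h9
      rw [hg, hg, gact_add, gact_smul, h.vu hF, mul_one] at h9
      exact add_left_cancel h9
    obtain ⟨l, hl⟩ : ∃ l, l = hermForm 3 F q (gact k v) u := ⟨_, rfl⟩
    rw [← hl] at h8
    have hku : gact k u = l • u := by
      have h9 : c⁻¹ • (c • gact k u) = c⁻¹ • ((c * l) • u) := by rw [h8]
      rw [smul_smul, smul_smul, inv_mul_cancel₀ hc, one_smul, ← mul_assoc, inv_mul_cancel₀ hc, one_mul] at h9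
      exact h9
    have hl1 : l ^ (q + 1) = 1 := by
      have h9 := gact_form k v u
      rw [hku, hermForm_smul_right, ← hl, h.vu hF] at h9
      rw [pow_succ]; exact h9
    have hl0 : l ≠ 0 := by
      rintro rfl
      rw [zero_pow (by omega)] at hl1
      exact zero_ne_one hl1
    obtain ⟨s', hs', hs'e⟩ := exists_scalar hF (c := l⁻¹) (by rw [inv_pow, hl1, inv_one])
    refine ⟨⟨s' * k, ?_⟩, ?_⟩
    · rw [mem_KU, gact_mul, hku, hs'e, smul_smul, inv_mul_cancel₀ hl0, one_smul]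
    · apply Subtype.ext
      show (QuotientGroup.mk (s' * k) : GU 3 F q ⧸ Subgroup.center (GU 3 F q)) = QuotientGroup.mk k
      rw [QuotientGroup.mk_mul, (QuotientGroup.eq_one_iff s').2 hs', one_mul]

theorem exists_tu {u : Fin 3 → F} (hu : hermForm 3 F q u u = 0) :
    ∃ g : GU 3 F q, (∀ x, gact g x = x + (hermForm 3 F q x u) • u) ∧ g * g = 1 := by
  have h2 : (2 : F) = 0 := CharTwo.two_eq_zero
  obtain ⟨g, -, hg⟩ := exists_transv hF (u := u) (a := 1) hu (by rw [one_pow]; linear_combination h2)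
  have h1 : ∀ x, gact (suToGU hF 3 g) x = x + (hermForm 3 F q x u) • u := by
    intro x
    rw [gact_suToGU, hg, one_mul]
  refine ⟨suToGU hF 3 g, h1, ?_⟩
  apply gact_ext
  intro x
  rw [gact_mul, h1, h1, gact_one, hermForm_add_left, hermForm_smul_left, hu, mul_zero, add_zero]
  have e : ∀ a : F, x + a • u + a • u = x + (2 * a) • u := by intro a; module
  rw [e, h2, zero_mul, zero_smul, add_zero]

theorem not_normal (P : Sylow 2 (GU 3 F q ⧸ Subgroup.center (GU 3 F q))) :
    ¬ (P : Subgroup (GU 3 F q ⧸ Subgroup.center (GU 3 F q))).Normal := by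
  intro hP
  have h2 : (2 : F) = 0 := CharTwo.two_eq_zero
  obtain ⟨u, hu0, huu⟩ := exists_isotropic hF (n := 3) (by omega)
  obtain ⟨v, z, h⟩ := exists_fr hF (u := u) ⟨hu0, huu⟩
  obtain ⟨t, ht, htt⟩ := exists_tu hF huu
  obtain ⟨t', ht', htt'⟩ := exists_tu hF h.hyp.2.1
  have hmem : ∀ t : GU 3 F q, t * t = 1 → (QuotientGroup.mk t : GU 3 F q ⧸ Subgroup.center (GU 3 F q)) ∈ P := by
    intro t ht
    apply TI.mem_of_two (m := 1) _ (Sylow.smul_eq_of_normal)
    rw [pow_one, pow_two, ← QuotientGroup.mk_mul, ht]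
    rfl
  have h3 := mul_mem (hmem t htt) (hmem t' htt')
  obtain ⟨k, hk⟩ := pow_two_of_mem h3
  obtain ⟨w, hw⟩ : ∃ w, w = t * t' := ⟨_, rfl⟩
  have h4 : w ^ 2 ^ k ∈ Subgroup.center (GU 3 F q) := by
    rw [← QuotientGroup.eq_one_iff, hw]
    exact hk
  have hwu : gact w u = v := by
    rw [hw, gact_mul, ht', ht, hermForm_add_left, hermForm_smul_left, h.hyp.2.2, huu, h.vu hF]
    have e : u + (1 : F) • v + (0 + 1 * 1 : F) • u = (2 : F) • u + v := by module
    rw [e, h2, zero_smul, zero_add]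
  have hwv : gact w v = v + u := by
    rw [hw, gact_mul, ht', ht, hermForm_add_left, hermForm_smul_left, h.hyp.2.1, h.vu hF]
    module
  have hwz : gact w z = z := by
    rw [hw, gact_mul, ht', ht, hermForm_add_left, hermForm_smul_left, h.zv, h.zu]
    module
  have hwvu : gact w (v + u) = u := by
    rw [gact_add, hwv, hwu]
    have e : v + u + v = (2 : F) • v + u := by module
    rw [e, h2, zero_smul, zero_add]
  have hw3 : w ^ 3 = 1 := by
    have e3 : w ^ 3 = w * (w * w) := by rw [pow_succ', pow_two]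
    rw [e3]
    apply h.ext hF
    · rw [gact_mul, gact_mul, hwu, hwv, hwvu, gact_one]
    · rw [gact_mul, gact_mul, hwv, hwvu, hwu, gact_one]
    · rw [gact_mul, gact_mul, hwz, hwz, hwz, gact_one]
  have hw1 : w ^ 2 ^ k = 1 := by
    obtain ⟨e, -, he⟩ := center_gact hF h4
    have h5 : ∀ n : ℕ, gact (w ^ n) z = z := by
      intro n
      induction n with
      | zero => rw [pow_zero, gact_one]
      | succ n ih => rw [pow_succ', gact_mul, ih, hwz]
    have h6 := he z
    rw [h5] at h6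
    have hz0 : z ≠ 0 := by
      rintro rfl
      have := h.zz
      rw [hermForm_zero_left] at this
      exact zero_ne_one this
    have h7 : (e - 1) • z = 0 := by rw [sub_smul, ← h6, one_smul, sub_self]
    have h8 : e = 1 := sub_eq_zero.1 ((smul_eq_zero.1 h7).resolve_right hz0)
    apply gact_ext
    intro x
    rw [he, h8, one_smul, gact_one]
  have h5 := pow_gcd_eq_one.2 ⟨hw1, hw3⟩
  have h6 : Nat.gcd (2 ^ k) 3 = 1 := Nat.Coprime.pow_left _ (by norm_num)
  rw [h6, pow_one] at h5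
  rw [h5, gact_one] at hwu
  have h7 := h.hyp.2.2
  rw [← hwu, huu] at h7
  exact zero_ne_one h7

theorem exists_invol : ∃ y : GU 3 F q ⧸ Subgroup.center (GU 3 F q), orderOf y = 2 := by
  have : Fact (Nat.Prime 2) := ⟨Nat.prime_two⟩
  obtain ⟨u, hu0, huu⟩ := exists_isotropic hF (n := 3) (by omega)
  obtain ⟨v, z, h⟩ := exists_fr hF (u := u) ⟨hu0, huu⟩
  obtain ⟨t, ht, htt⟩ := exists_tu hF huu
  refine ⟨QuotientGroup.mk t, orderOf_eq_prime ?_ ?_⟩
  · rw [pow_two, ← QuotientGroup.mk_mul, htt]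
    rfl
  · intro h1
    obtain ⟨e, -, he⟩ := center_gact hF ((QuotientGroup.eq_one_iff _).1 h1)
    have h2 := he u
    rw [ht, huu, zero_smul, add_zero] at h2
    have h3 : (e - 1) • u = 0 := by rw [sub_smul, ← h2, one_smul, sub_self]
    have h4 : e = 1 := sub_eq_zero.1 ((smul_eq_zero.1 h3).resolve_right hu0)
    have h5 := he v
    rw [ht, h.vu hF, h4, one_smul, one_smul] at h5
    exact hu0 (add_eq_left.1 h5)

end

end Cfsg.Agent.PSU3Id.MG
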